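import Cfsg.Agent.Lib.SzBinary.Common
import Cfsg.Agent.Lib.Suzuki.SubgroupMax

/-!
Non-solvable subgroups of a Suzuki group give actions that are not binary.
-/

set_option autoImplicit false
set_option linter.unusedSectionVars false

namespace Cfsg.Agent.SzBinary

open Cfsg.Agent.Suzuki

variable {F : Type*} [Field F] [Fintype F] {m : ℕ} (h : SzField F m)

include h

theorem units_sq_mem {K : Type*} [Field K] [Fintype K] {j : ℕ} (hK : SzField K j) (f : K →+* F) (x : F)
    {l : K} (e : x * x = f l) : ∃ y, f y = x := by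
  haveI := hK.charP
  obtain ⟨y, hy⟩ := (PerfectRing.bijective_frobenius (R := K) (p := 2)).2 l
  refine ⟨y, ?_⟩
  haveI := h.charP
  have h2 : frobenius F 2 (f y) = frobenius F 2 x := by
    rw [frobenius_def, frobenius_def, pow_two x, e, ← map_pow]
    exact congrArg f hy
  exact frobenius_inj F 2 h2

theorem not_crit_subfield {K : Type*} [Field K] [Fintype K] {j : ℕ} (hK : SzField K j)
    (hd : 2 * j + 1 ∣ 2 * m + 1) (hjm : j < m) (f : K →+* F) {M : Subgroup (Cfsg.Sz F m)}
    (hle : M ≤ (emb h hK hd f).range) (hT : T h 0 1 ∈ M) : ¬ Crit M := by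
  intro hc
  have hnsurj : ¬ Function.Surjective f := fun hs => by
    have h1 := Fintype.card_le_of_surjective f hs
    rw [h.card, hK.card] at h1
    have := (Nat.pow_le_pow_iff_right (by norm_num : 1 < 2)).mp h1
    omega
  simp only [Function.Surjective, not_forall, not_exists] at hnsurj
  obtain ⟨κ, hκ⟩ := hnsurj
  have hunit : ∀ μ : F, (∀ y, f y ≠ μ) → ∃ k : Fˣ, θ m (k : F) * k = μ ∧ ∀ y, f y ≠ (k : F) := by
    intro μ hμ
    have hμ0 : μ ≠ 0 := fun e => hμ 0 (by rw [map_zero, e])
    obtain ⟨k, hk⟩ := exists_units_of_theta h hμ0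
    refine ⟨k, hk, fun y hy => hμ (θ j y * y) ?_⟩
    rw [map_mul, ← map_θ hK hd f, hy, hk]
  obtain ⟨k₂, hk₂, hk₂'⟩ := hunit κ hκ
  obtain ⟨k₃, hk₃, hk₃'⟩ := hunit (1 + κ) (fun y hy => hκ (y + 1) (by
    rw [map_add, map_one, hy]; linear_combination h.two_eq_zero))
  -- the conjugate meets the subgroup inside the torus
  have hcore : ∀ k : Fˣ, (∀ y, f y ≠ (k : F)) → ∀ a, a ∈ M → (H h k)⁻¹ * a * H h k ∈ M → a ∈ torus h := by
    intro k hk a ha ha'
    obtain ⟨z, hz⟩ := hle ha'
    obtain ⟨z', hz'⟩ := hle ha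
    have hza : a = H h k * emb h hK hd f z * (H h k)⁻¹ := by rw [hz]; group
    have hk0 : ∀ p p' : K, (k : F) * f p = f p' → p = 0 := fun p p' e => by
      by_contra hp
      refine hk (p' / p) ?_
      rw [map_div₀, div_eq_iff ((map_ne_zero f).mpr hp), e]
    have hk1 : ∀ p p' : K, θ m (k : F) * k * f p = f p' → p = 0 := fun p p' e => by
      by_contra hp
      by_cases hp' : p' = 0
      · rw [hp', map_zero] at e
        exact hp ((map_eq_zero f).mp ((mul_eq_zero.mp e).resolve_left
          (mul_ne_zero (θ_ne_zero m k.ne_zero) k.ne_zero)))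
      · obtain ⟨y, hy0, hy⟩ := hK.θ_mul_self_surjective (p' / p) (div_ne_zero hp' hp)
        refine hk y ?_
        refine h.θ_mul_self_injective ((map_ne_zero f).mpr hy0) k.ne_zero ?_
        rw [map_θ hK hd f, ← map_mul, hy, map_div₀, div_eq_iff ((map_ne_zero f).mpr hp), e]
    by_cases hzb : z ∈ Suzuki.borel K j
    · obtain ⟨p, q, l, rfl⟩ := borel_form hK hzb
      have haform : a = T h ((k : F) * f p) (θ m (k : F) * k * f q) * H h (Units.map f.toMonoidHom l) := by
        rw [hza, map_mul, emb_T, emb_H, show H h k * (T h (f p) (f q) * H h (Units.map f.toMonoidHom l)) * (H h k)⁻¹ =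
          H h k * T h (f p) (f q) * (H h k)⁻¹ * (H h k * H h (Units.map f.toMonoidHom l) * (H h k)⁻¹) by group,
          H_conj_T, ← H_mul, H_inv, ← H_mul]
        congr 2
        rw [mul_comm k, mul_inv_cancel_right]
      by_cases hz'b : z' ∈ Suzuki.borel K j
      · obtain ⟨p', q', l', rfl⟩ := borel_form hK hz'b
        rw [map_mul, emb_T, emb_H, haform] at hz'
        obtain ⟨h1, h2, -⟩ := TH_unique h hz'
        refine (mem_torus h).mpr ⟨Units.map f.toMonoidHom l, ?_⟩
        rw [haform, hk0 p p' h1.symm, hk1 q q' h2.symm, map_zero, mul_zero, mul_zero, T_zero, one_mul]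
      · obtain ⟨p', q', p'', q'', l', rfl⟩ := bruhat hK hz'b
        exfalso
        have hab : a • Cfsg.suzukiPointInfinity F = Cfsg.suzukiPointInfinity F := by
          rw [haform, mul_smul, H_smul_pinf, T_smul_pinf]
        rw [← hz'] at hab
        simp only [map_mul, emb_T, emb_H, emb_W, mul_smul, H_smul_pinf, T_smul_pinf, W_smul_pinf,
          T_smul_pt_zero] at hab
        exact pt_ne_pinf _ _ hab
    · exfalso
      obtain ⟨p, q, p₂, q₂, l, rfl⟩ := bruhat hK hzb
      have hHi : (H h k)⁻¹ • Cfsg.suzukiPointInfinity F = Cfsg.suzukiPointInfinity F := by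
        rw [H_inv, H_smul_pinf]
      have hainf : a • Cfsg.suzukiPointInfinity F = pt m ((k : F) * f p) (θ m (k : F) * k * f q) := by
        rw [hza]
        simp only [map_mul, emb_T, emb_H, emb_W, mul_smul, hHi, H_smul_pinf, T_smul_pinf, W_smul_pinf,
          T_smul_pt_zero, H_smul_pt]
      have hpq : p = 0 ∧ q = 0 := by
        by_cases hz'b : z' ∈ Suzuki.borel K j
        · obtain ⟨p', q', l', rfl⟩ := borel_form hK hz'b
          rw [← hz'] at hainf
          simp only [map_mul, emb_T, emb_H, mul_smul, H_smul_pinf, T_smul_pinf] at hainf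
          exact absurd hainf.symm (pt_ne_pinf _ _)
        · obtain ⟨p', q', p'', q'', l', rfl⟩ := bruhat hK hz'b
          rw [← hz'] at hainf
          simp only [map_mul, emb_T, emb_H, emb_W, mul_smul, H_smul_pinf, T_smul_pinf, W_smul_pinf,
            T_smul_pt_zero] at hainf
          obtain ⟨h1, h2⟩ := pt_inj hainf
          exact ⟨hk0 p p' h1.symm, hk1 q q' h2.symm⟩
      obtain ⟨rfl, rfl⟩ := hpq
      -- now the element maps infinity to the origin
      rw [T_zero, one_mul] at hza
      set z₂ := W hK * (T hK p₂ q₂ * H hK l)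
      by_cases hz'b : z' ∈ Suzuki.borel K j
      · obtain ⟨p', q', l', rfl⟩ := borel_form hK hz'b
        rw [← hz'] at hainf
        simp only [map_mul, emb_T, emb_H, mul_smul, H_smul_pinf, T_smul_pinf] at hainf
        exact absurd hainf.symm (pt_ne_pinf _ _)
      obtain ⟨p', q', p'', q'', l', rfl⟩ := bruhat hK hz'b
      have hainf' : a • Cfsg.suzukiPointInfinity F = pt m (f p') (f q') := by
        rw [← hz']
        simp only [map_mul, emb_T, emb_H, emb_W, mul_smul, H_smul_pinf, T_smul_pinf, W_smul_pinf,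
          T_smul_pt_zero]
      obtain ⟨h1, h2⟩ := pt_inj (hainf'.symm.trans hainf)
      rw [map_zero, mul_zero] at h1 h2
      rw [(map_eq_zero f).mp h1, (map_eq_zero f).mp h2, T_zero, one_mul, map_mul, emb_W, map_mul, emb_T, emb_H,
        hza, map_mul, emb_W, map_mul, emb_T, emb_H] at hz'
      have hWH : H h k * W h = W h * H h k⁻¹ := by
        calc H h k * W h = (W h * W h) * H h k * W h := by rw [W_mul_self]; group
          _ = W h * (W h * H h k * W h) := by group
          _ = W h * H h k⁻¹ := by rw [W_conj_H]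
      rw [show H h k * (W h * (T h (f p₂) (f q₂) * H h (Units.map f.toMonoidHom l))) * (H h k)⁻¹ =
        (H h k * W h) * T h (f p₂) (f q₂) * (H h (Units.map f.toMonoidHom l) * (H h k)⁻¹) by group, hWH,
        show W h * H h k⁻¹ * T h (f p₂) (f q₂) * (H h (Units.map f.toMonoidHom l) * (H h k)⁻¹) =
          W h * (H h k⁻¹ * T h (f p₂) (f q₂) * (H h k⁻¹)⁻¹ * (H h k⁻¹ * H h (Units.map f.toMonoidHom l) * (H h k)⁻¹))
          by group, H_conj_T, H_inv, ← H_mul, ← H_mul] at hz'
      obtain ⟨-, -, hl⟩ := TH_unique h (mul_left_cancel hz')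
      have hl' : ((k : F) * k) = f ((l : K) / l') := by
        have := congrArg (fun u : Fˣ => (u : F)) hl
        simp only [Units.val_mul, Units.coe_map, RingHom.toMonoidHom_eq_coe, MonoidHom.coe_coe,
          Units.val_inv_eq_inv_val] at this
        rw [map_div₀]
        field_simp at this ⊢
        linear_combination this
      obtain ⟨y, hy⟩ := units_sq_mem h hK f (k : F) hl'
      exact hk y hy
  have hconj : ∀ k : Fˣ, (H h k)⁻¹ * T h 0 (θ m (k : F) * k) * H h k = T h 0 1 := fun k => by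
    have := H_conj_zero h k (1 : F)
    rw [mul_one] at this
    rw [← this]; group
  obtain ⟨a, b, ⟨ha, ha'⟩, ⟨hb, hb'⟩, hab⟩ := hc (H h k₂) (H h k₃) (T h 0 1)
    (T h 0 (θ m (k₂ : F) * k₂)) (T h 0 (θ m (k₃ : F) * k₃)) hT (by rw [hconj]; exact hT)
    (by rw [hconj]; exact hT) (by
      rw [T_zero_mul, hk₂, hk₃]; congr 1; linear_combination (-κ) * h.two_eq_zero)
  have h1 : T h 0 1 ∈ torus h := hab ▸ (torus h).mul_mem (hcore k₂ hk₂' a ha ha') (hcore k₃ hk₃' b hb hb')
  exact one_ne_zero ((eq_one_iff_T h).mp ((torType_torus h).not_orderOf_two h h1 (n := 1)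
    (by rw [pow_one, pow_two, T_sq, θ_zero, zero_mul, T_zero]))).2

theorem not_crit_nonsolvable {M : Subgroup (Cfsg.Sz F m)} (hMtop : M ≠ ⊤) (hns : ¬ Group.IsSolvable M) :
    ¬ Crit M := by
  intro hc
  obtain ⟨g, hT, hA⟩ := exists_normal_position h M hns
  have htop : conjSub g M ≠ ⊤ := fun e => hMtop <| eq_top_iff.mpr fun x _ => by
    have : g * x * g⁻¹ ∈ conjSub g M := e ▸ Subgroup.mem_top _
    rw [mem_conjSub] at this
    simpa [mul_assoc] using this
  obtain ⟨k, hk1, hkm, hd, hle⟩ :=
    le_subfield_of_normal_position h _ htop (conjSub_not_solvable h M hns g) hT hA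
  have : Fact (Nat.Prime 2) := ⟨Nat.prime_two⟩
  let K := GaloisField 2 (2 * k + 1)
  let : Fintype K := Fintype.ofFinite K
  have hcK : Fintype.card K = 2 ^ (2 * k + 1) := by
    rw [← Nat.card_eq_fintype_card]; exact GaloisField.card 2 _ (by omega)
  have hK : SzField K k := ⟨hk1, hcK⟩
  obtain ⟨f⟩ := exists_ringHom h hK hd
  exact not_crit_subfield h hK hd hkm f (hle K hK f) hT (crit_conj g (fun x => mem_conjSub) hc)

end Cfsg.Agent.SzBinary
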