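import Cfsg.Agent.Lib.SzBinary.Common
import Cfsg.Agent.Lib.Suzuki.ClassSquare

/-!
Subgroups of torus normalisers of a Suzuki group give actions that are not binary.
-/

set_option autoImplicit false
set_option linter.unusedSectionVars false

namespace Cfsg.Agent.SzBinary

open Cfsg.Agent.Suzuki

variable {F : Type*} [Field F] [Fintype F] {m : ℕ} (h : SzField F m)

include h

/-- An involution which is a product of two conjugates of a given semisimple element. -/
theorem exists_involution_triple {x : Cfsg.Sz F m} (hx : x ^ 4 ≠ 1) :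
    ∃ g v, orderOf v = 2 ∧ v = x * (g * x * g⁻¹) := by
  obtain ⟨y, z, hy, hz, hyz⟩ := cover_ss_two h hx (order_two_T h (b := 1) one_ne_zero)
  obtain ⟨a, rfl⟩ := isConj_iff.mp hy
  obtain ⟨b, rfl⟩ := isConj_iff.mp hz
  obtain ⟨c, hc⟩ := isConj_iff.mp hyz
  refine ⟨a⁻¹ * b, x * (a⁻¹ * b * x * (a⁻¹ * b)⁻¹), ?_, rfl⟩
  rw [← orderOf_conj_eq a, show a * (x * (a⁻¹ * b * x * (a⁻¹ * b)⁻¹)) * a⁻¹ = a * x * a⁻¹ * (b * x * b⁻¹) by group,
    ← hc, orderOf_conj_eq]
  exact order_two_T h one_ne_zero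

/-- A nontrivial subgroup of a torus. -/
theorem not_crit_torus {K C : Subgroup (Cfsg.Sz F m)} {e : ℕ} (hC : TorType C e) (hKC : K ≤ C)
    {x : Cfsg.Sz F m} (hx : x ∈ K) (hx1 : x ≠ 1) : ¬ Crit K := by
  intro hc
  have hx4 := pow_four_ne_of_mem h hC (hKC hx) hx1
  obtain ⟨g, v, hv, hvx⟩ := exists_involution_triple h hx4
  set w := g * x⁻¹ * g⁻¹ with hw
  have hv2 : (x * w⁻¹) * (x * w⁻¹) = 1 := by
    rw [hw, show (g * x⁻¹ * g⁻¹)⁻¹ = g * x * g⁻¹ by group, ← hvx, ← pow_two, ← hv, pow_orderOf_eq_one]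
  have hrel : x = w * x⁻¹ * w := by
    calc x = (x * w⁻¹) * (x * w⁻¹) * (w * x⁻¹ * w) := by group
      _ = w * x⁻¹ * w := by rw [hv2, one_mul]
  have hvC : v ∉ C := fun hm => by
    have := hC.not_orderOf_two h hm (n := 1) (by rw [pow_one, ← hv, pow_orderOf_eq_one])
    rw [this, orderOf_one] at hv
    omega
  have hgN : g ∉ Subgroup.normalizer (C : Set (Cfsg.Sz F m)) := fun hg => hvC (by
    rw [hvx]; exact C.mul_mem (hKC hx) ((Subgroup.mem_normalizer_iff.mp hg x).mp (hKC hx)))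
  have hwC : w ∉ C := fun hwm => hvC (by
    rw [hvx]
    refine C.mul_mem (hKC hx) ?_
    have := C.inv_mem hwm
    rwa [hw, show (g * x⁻¹ * g⁻¹)⁻¹ = g * x * g⁻¹ by group] at this)
  obtain ⟨a, b, ⟨ha, ha'⟩, ⟨hb, hb'⟩, hab⟩ := hc g w⁻¹ x (w * w) (w⁻¹ * x⁻¹ * w) hx
    (by rw [hw, show g⁻¹ * (g * x⁻¹ * g⁻¹ * (g * x⁻¹ * g⁻¹)) * g = x⁻¹ * x⁻¹ by group]
        exact K.mul_mem (K.inv_mem hx) (K.inv_mem hx))
    (by rw [show w⁻¹⁻¹ * (w⁻¹ * x⁻¹ * w) * w⁻¹ = x⁻¹ by group]; exact K.inv_mem hx)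
    (by rw [show w * w * (w⁻¹ * x⁻¹ * w) = w * x⁻¹ * w by group]; exact hrel)
  have ha1 : a = 1 := by
    by_contra h1
    exact hgN (mem_normalizer_of_common h hC (hKC ha) h1 (hKC ha'))
  have hb1 : b = 1 := by
    by_contra h1
    have hwN := mem_normalizer_of_common h hC (hKC hb) h1 (hKC hb')
    have hw4 : w ^ 4 ≠ 1 := fun e4 => hx4 (by
      rw [hw, pow_four_conj h, inv_pow, inv_eq_one] at e4
      exact e4)
    exact hwC (mem_of_mem_normalizer h hC (by simpa using Subgroup.inv_mem _ hwN) hw4)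
  rw [ha1, hb1, one_mul] at hab
  exact hx1 hab

theorem card_torType_le {C : Subgroup (Cfsg.Sz F m)} {e : ℕ} (hC : TorType C e) {x : Cfsg.Sz F m}
    (hx : x ∈ C) (hx1 : x ≠ 1) : 4 * Nat.card C < (2 ^ (2 * m + 1)) ^ 2 := by
  have h4 := pow_four_ne_of_mem h hC hx hx1
  have hq := h.eight_le_card
  rw [h.card] at hq
  have hr : (2 ^ (m + 1)) * 2 ≤ 2 ^ (2 * m + 1) := by
    rw [← pow_succ]
    have := h.one_le
    exact Nat.pow_le_pow_right (by norm_num) (by omega)
  rcases centralizer_cases h hx1 with ⟨u, hu⟩ | ⟨-, hcard⟩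
  · exact absurd (pow_four_of_conj_root h hu) h4
  · rw [hC.ti x hx hx1] at hcard
    simp only [torusOrders, Set.mem_insert_iff, Set.mem_singleton_iff] at hcard
    generalize 2 ^ (2 * m + 1) = q at hcard hq hr ⊢
    generalize 2 ^ (m + 1) = r at hcard hr
    have h8 : 8 * q ≤ q ^ 2 := by rw [pow_two]; exact Nat.mul_le_mul_right q hq
    rcases hcard with e' | e' | e' <;> omega

/-- A subgroup of a torus normaliser meeting the torus and containing an involution. -/
theorem not_crit_normalizer {K C : Subgroup (Cfsg.Sz F m)} {e : ℕ} (hC : TorType C e)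
    (hKN : K ≤ Subgroup.normalizer (C : Set (Cfsg.Sz F m))) {x s : Cfsg.Sz F m} (hx : x ∈ K) (hxC : x ∈ C)
    (hx1 : x ≠ 1) (hs : s ∈ K) (hs2 : orderOf s = 2) : ¬ Crit K := by
  classical
  intro hc
  set N := Subgroup.normalizer (C : Set (Cfsg.Sz F m)) with hN
  have hx4 := pow_four_ne_of_mem h hC hxC hx1
  obtain ⟨g₃, v, hv, hvx⟩ := exists_involution_triple h hx4
  have hvv : v * v = 1 := by rw [← pow_two, ← hv, pow_orderOf_eq_one]
  have hvC : v ∉ C := fun hm => by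
    have := hC.not_orderOf_two h hm (n := 1) (by rw [pow_one, ← hv, pow_orderOf_eq_one])
    rw [this, orderOf_one] at hv
    omega
  have hvN : v ∉ N := fun hm => by
    have hinv := hC.invert h hm hv hxC
    have h2 : (g₃ * x * g₃⁻¹) * (g₃ * x * g₃⁻¹) = 1 := by
      have e1 : g₃ * x * g₃⁻¹ = x⁻¹ * v := by rw [hvx]; group
      rw [e1, show x⁻¹ * v * (x⁻¹ * v) = x⁻¹ * (v * x * v⁻¹)⁻¹ * (v * v) by group, hinv, hvv]
      group
    refine hx4 ((pow_four_conj h (g := g₃)).mp ?_)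
    rw [show (g₃ * x * g₃⁻¹) ^ 4 = ((g₃ * x * g₃⁻¹) * (g₃ * x * g₃⁻¹)) ^ 2 by rw [← pow_two, ← pow_mul]]
    rw [h2, one_pow]
  obtain ⟨g₀, hg₀⟩ := isConj_iff.mp (involutions_conj h hs2 hv)
  -- choose a conjugate through `v` meeting `K` trivially
  obtain ⟨c, hcv, hcgood⟩ : ∃ c ∈ Subgroup.centralizer ({v} : Set (Cfsg.Sz F m)),
      ∀ a ∈ K, (c * g₀)⁻¹ * a * (c * g₀) ∈ K → a = 1 := by
    by_contra hno
    push Not at hno
    have hg : ∀ c ∈ Subgroup.centralizer ({v} : Set (Cfsg.Sz F m)), c * g₀ * s * (c * g₀)⁻¹ = v := by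
      intro c hc'
      rw [show c * g₀ * s * (c * g₀)⁻¹ = c * (g₀ * s * g₀⁻¹) * c⁻¹ by group, hg₀,
        Subgroup.mem_centralizer_singleton_iff.mp hc', mul_inv_cancel_right]
    have key : ∀ c ∈ Subgroup.centralizer ({v} : Set (Cfsg.Sz F m)), ∃ s', s' ∈ N ∧ orderOf s' = 2 ∧
        conjSub (c * g₀) C = Subgroup.centralizer {s' * v} := by
      intro c hc'
      obtain ⟨a, ha, ha', ha1⟩ := hno c hc'
      set g := c * g₀
      have ha4 : a ^ 4 = 1 := by
        by_contra h4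
        have h4' : (g⁻¹ * a * g) ^ 4 ≠ 1 := by
          have := (pow_four_conj h (g := g⁻¹) (x := a))
          rw [inv_inv] at this
          exact fun e4 => h4 (this.mp e4)
        have hgN : g ∈ N := mem_normalizer_of_common h hC (mem_of_mem_normalizer h hC (hKN ha) h4) ha1
          (mem_of_mem_normalizer h hC (hKN ha') h4')
        refine hvN ?_
        rw [← hg c hc']
        exact N.mul_mem (N.mul_mem hgN (hKN hs)) (N.inv_mem hgN)
      obtain ⟨s', hs'K, hs'2, hs'g⟩ : ∃ s', s' ∈ K ∧ orderOf s' = 2 ∧ g⁻¹ * s' * g ∈ K := by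
        by_cases h2 : a ^ 2 = 1
        · exact ⟨a, ha, orderOf_eq_prime_iff.mpr ⟨h2, ha1⟩, ha'⟩
        · refine ⟨a ^ 2, K.pow_mem ha 2, orderOf_eq_prime_iff.mpr ⟨by rw [← pow_mul]; exact ha4, h2⟩, ?_⟩
          rw [pow_two, show g⁻¹ * (a * a) * g = g⁻¹ * a * g * (g⁻¹ * a * g) by group]
          exact K.mul_mem ha' ha'
      refine ⟨s', hKN hs'K, hs'2, ?_⟩
      have hC2 := hC.conj h g
      have hmemN : ∀ y, g⁻¹ * y * g ∈ N → y ∈ Subgroup.normalizer (conjSub g C : Set (Cfsg.Sz F m)) := fun y hy => by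
        rw [normalizer_conjSub, mem_conjSub]; exact hy
      have h1 := hmemN s' (hKN hs'g)
      have h2 := hmemN v (by rw [← hg c hc', show g⁻¹ * (g * s * g⁻¹) * g = s by group]; exact hKN hs)
      have hne : s' * v ≠ 1 := fun e1 => hvN (by
        rw [eq_inv_of_mul_eq_one_right e1]; exact N.inv_mem (hKN hs'K))
      obtain ⟨d, hd, hd1⟩ : ∃ d ∈ conjSub g C, d ≠ 1 :=
        ((Subgroup.bot_or_exists_ne_one _).resolve_left (fun e0 => by
          have := hC2.one_lt
          rw [e0, Subgroup.card_bot] at this; omega))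
      have hcent : s' * v * d = d * (s' * v) := by
        have e1 := hC2.invert h h2 hv hd
        have e2 := hC2.invert h h1 hs'2 ((conjSub g C).inv_mem hd)
        calc s' * v * d = s' * (v * d * v⁻¹) * v := by group
          _ = s' * d⁻¹ * s'⁻¹ * (s' * v) := by rw [e1]; group
          _ = d * (s' * v) := by rw [e2, inv_inv]
      have hmem : s' * v ∈ conjSub g C := by
        rw [← hC2.ti d hd hd1, Subgroup.mem_centralizer_singleton_iff]; exact hcent
      exact (hC2.ti _ hmem hne).symm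
    choose f hfN hf2 hfC using key
    let Z := Subgroup.centralizer ({v} : Set (Cfsg.Sz F m))
    let Φ : Z → {y // y ∈ N ∧ orderOf y = 2} := fun c => ⟨f c c.2, hfN c c.2, hf2 c c.2⟩
    have hfib : ∀ y, (Finset.univ.filter (fun c : Z => Φ c = y)).card ≤ 4 := by
      intro y
      rcases (Finset.univ.filter (fun c : Z => Φ c = y)).eq_empty_or_nonempty with hE | ⟨c₁, hc₁⟩
      · rw [hE]; simp
      have : (C.subgroupOf N).Normal := Subgroup.normal_in_normalizer
      have hidx : Nat.card (N ⧸ C.subgroupOf N) = e := by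
        have h1 := Subgroup.card_eq_card_quotient_mul_card_subgroup (C.subgroupOf N)
        rw [Nat.card_congr (Subgroup.subgroupOfEquivOfLe (Subgroup.le_normalizer (H := C))).toEquiv,
          hC.card_normalizer] at h1
        exact (Nat.eq_of_mul_eq_mul_right (by have := hC.one_lt; omega) h1).symm
      have hd : ∀ c : {c : Z // Φ c = y}, (c₁.1 * g₀)⁻¹ * (c.1.1 * g₀) ∈ N := by
        rintro ⟨c, hcy⟩
        simp only [Finset.mem_filter, Finset.mem_univ, true_and] at hc₁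
        have e1 : f c.1 c.2 = f c₁.1 c₁.2 := congrArg Subtype.val (hcy.trans hc₁.symm)
        have e2 : conjSub (c.1 * g₀) C = conjSub (c₁.1 * g₀) C := by rw [hfC c.1 c.2, hfC c₁.1 c₁.2, e1]
        refine mem_normalizer_of_conjSub_eq ?_
        rw [conjSub_mul, e2, ← conjSub_mul, inv_mul_cancel]
        ext z
        simp [mem_conjSub]
      let ι : {c : Z // Φ c = y} → N ⧸ C.subgroupOf N := fun c => QuotientGroup.mk ⟨_, hd c⟩
      have hι : Function.Injective ι := by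
        intro c c' e1
        simp only [ι, QuotientGroup.eq, Subgroup.mem_subgroupOf, Subgroup.coe_mul, Subgroup.coe_inv] at e1
        set z := ((c₁.1 * g₀)⁻¹ * (c.1.1 * g₀))⁻¹ * ((c₁.1 * g₀)⁻¹ * (c'.1.1 * g₀)) with hz
        have hzz : z = g₀⁻¹ * (c.1.1⁻¹ * c'.1.1) * g₀ := by rw [hz]; group
        have hcc := Subgroup.mem_centralizer_singleton_iff.mp (Z.mul_mem (Z.inv_mem c.1.2) c'.1.2)
        have hfix : s * z * s⁻¹ = z := by
          have hs' : s = g₀⁻¹ * v * g₀ := by rw [← hg₀]; group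
          rw [hs', hzz]
          calc g₀⁻¹ * v * g₀ * (g₀⁻¹ * (c.1.1⁻¹ * c'.1.1) * g₀) * (g₀⁻¹ * v * g₀)⁻¹
              = g₀⁻¹ * (v * (c.1.1⁻¹ * c'.1.1)) * v⁻¹ * g₀ := by group
            _ = g₀⁻¹ * (c.1.1⁻¹ * c'.1.1) * g₀ := by rw [← hcc]; group
        have hz2 : z ^ 2 ^ 1 = 1 := by
          have := hC.invert h (hKN hs) hs2 e1
          rw [hfix] at this
          rw [pow_one, pow_two]
          nth_rewrite 1 [this]
          exact inv_mul_cancel z
        have hz1 : z = 1 := hC.not_orderOf_two h e1 hz2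
        rw [hzz, show g₀⁻¹ * (c.1.1⁻¹ * c'.1.1) * g₀ = g₀⁻¹ * (c.1.1⁻¹ * c'.1.1) * g₀⁻¹⁻¹ by rw [inv_inv],
          conj_eq_one_iff, inv_mul_eq_one] at hz1
        exact Subtype.ext (Subtype.ext hz1)
      have h1 := Nat.card_le_card_of_injective ι hι
      rw [hidx, Nat.card_eq_fintype_card, Fintype.card_subtype] at h1
      refine h1.trans ?_
      rcases hC.he with rfl | rfl <;> norm_num
    have hle := Finset.card_le_mul_card_image (f := Φ) (Finset.univ : Finset Z) 4 (fun y _ => hfib y)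
    have h1 : (Finset.univ : Finset Z).card = (2 ^ (2 * m + 1)) ^ 2 := by
      rw [Finset.card_univ, ← Nat.card_eq_fintype_card]; exact card_centralizer_involution h hv
    have h2 : ((Finset.univ : Finset Z).image Φ).card ≤ Nat.card C := by
      rw [← hC.card_involutions h, Nat.card_eq_fintype_card]
      exact Finset.card_le_univ _
    have := card_torType_le h hC hxC hx1
    rw [h1] at hle
    omega
  set g₂ := c * g₀ with hg₂
  have hv₂ : g₂⁻¹ * v * g₂ = s := by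
    rw [hg₂, show (c * g₀)⁻¹ * v * (c * g₀) = g₀⁻¹ * (c⁻¹ * (v * c)) * g₀ by group,
      ← Subgroup.mem_centralizer_singleton_iff.mp hcv, inv_mul_cancel_left, ← hg₀]
    group
  obtain ⟨a, b, ⟨ha, ha'⟩, ⟨hb, hb'⟩, hab⟩ := hc g₂ g₃ x v (g₃ * x⁻¹ * g₃⁻¹) hx (by rw [hv₂]; exact hs)
    (by rw [show g₃⁻¹ * (g₃ * x⁻¹ * g₃⁻¹) * g₃ = x⁻¹ by group]; exact K.inv_mem hx)
    (by rw [hvx]; group)
  rw [hcgood a ha ha', one_mul] at hab
  have h4' : (g₃⁻¹ * x * g₃) ^ 4 ≠ 1 := by
    have := (pow_four_conj h (g := g₃⁻¹) (x := x))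
    rw [inv_inv] at this
    exact fun e4 => hx4 (this.mp e4)
  have hmem : g₃⁻¹ * x * g₃ ∈ C := mem_of_mem_normalizer h hC (hKN (hab ▸ hb')) h4'
  have hgN : g₃ ∈ N := mem_normalizer_of_common h hC hxC hx1 hmem
  exact hvC (by rw [hvx]; exact C.mul_mem hxC ((Subgroup.mem_normalizer_iff.mp hgN x).mp hxC))

end Cfsg.Agent.SzBinary
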