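import Cfsg.Agent.Lib.SzBinary.Borel
import Cfsg.Agent.Lib.SzBinary.Torus
import Cfsg.Agent.Lib.SzBinary.Subfield

/-!
The binary actions of the Suzuki groups on cosets.
-/

set_option autoImplicit false
set_option linter.unusedSectionVars false

namespace Cfsg.Agent.SzBinary

open Cfsg.Agent.Suzuki

variable {F : Type*} [Field F] [Fintype F] {m : ℕ} (h : SzField F m)

include h

theorem abelian_of_odd {K : Subgroup (Cfsg.Sz F m)} (hodd : Odd (Nat.card K)) :
    ∀ x ∈ K, ∀ y ∈ K, x * y = y * x := by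
  classical
  by_cases hbot : K = ⊥
  · subst hbot; intro x hx y hy; rw [Subgroup.mem_bot.mp hx, Subgroup.mem_bot.mp hy]
  have hsol : Group.IsSolvable K := by
    by_contra hns
    obtain ⟨t, ht, ot⟩ := exists_involution_mem h K hns
    have := Odd.of_dvd_nat hodd (Subgroup.orderOf_mk t ht ▸ orderOf_dvd_natCard (⟨t, ht⟩ : K))
    rw [ot] at this
    exact absurd this (by decide)
  intro x hx y hy
  rcases solvable_le h hsol hbot with ⟨p, hp, hfix⟩ | ⟨C, e, hC, -, hle⟩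
  · obtain ⟨u, rfl⟩ := exists_smul_pinf h hp
    have hb : ∀ z ∈ K, u⁻¹ * z * u ∈ Suzuki.borel F m := fun z hz => by
      show (u⁻¹ * z * u) • Cfsg.suzukiPointInfinity F = Cfsg.suzukiPointInfinity F
      rw [mul_smul, mul_smul, hfix z hz, inv_smul_smul]
    obtain ⟨a, b, k, hk⟩ := borel_form h (hb x hx)
    obtain ⟨c, d, l, hl⟩ := borel_form h (hb y hy)
    have key : u⁻¹ * (x * y * (y * x)⁻¹) * u ∈ rootGroup h := by
      rw [show u⁻¹ * (x * y * (y * x)⁻¹) * u =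
        (u⁻¹ * x * u) * (u⁻¹ * y * u) * ((u⁻¹ * y * u) * (u⁻¹ * x * u))⁻¹ by group, hk, hl, form_mul, form_mul]
      obtain ⟨p₁, r₁, e₁⟩ : ∃ p r, T h (a + (k : F) * c) (b + θ m (k : F) * k * d + θ m a * ((k : F) * c)) *
          (T h (c + (l : F) * a) (d + θ m (l : F) * l * b + θ m c * ((l : F) * a)))⁻¹ = T h p r :=
        ⟨_, _, by rw [T_inv, T_mul]⟩
      refine ⟨p₁, r₁, ?_⟩
      rw [← e₁, mul_comm l k]
      group
    have h4 : (x * y * (y * x)⁻¹) ^ 4 = 1 := by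
      refine (pow_four_conj h (g := u⁻¹)).mp ?_
      rw [inv_inv]
      exact pow_four_of_mem_root h key
    exact mul_inv_eq_one.mp (pow_four_of_odd h hodd (K.mul_mem (K.mul_mem hx hy) (K.inv_mem (K.mul_mem hy hx))) h4)
  · have hmem : ∀ z ∈ K, z ∈ C := fun z hz => by
      by_cases hz1 : z = 1
      · rw [hz1]; exact C.one_mem
      · exact mem_of_mem_normalizer h hC (hle hz) fun h4 => hz1 (pow_four_of_odd h hodd hz h4)
    exact hC.comm x (hmem x hx) y (hmem y hy)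

/-- The only nontrivial proper subgroups satisfying the triple condition are the conjugates of the
centre of the root group. -/
theorem eq_zGroup_of_crit {K : Subgroup (Cfsg.Sz F m)} (hc : Crit K) (hbot : K ≠ ⊥) (htop : K ≠ ⊤) :
    ∃ c, conjSub c K = zGroup h := by
  classical
  have : Fact (Nat.Prime 2) := ⟨Nat.prime_two⟩
  have hcc : ∀ c, Crit (conjSub c K) := fun c => crit_conj c (fun x => mem_conjSub) hc
  by_cases h4 : ∀ x ∈ K, x ^ 4 = 1
  · have hp : IsPGroup 2 K := fun x => ⟨2, Subtype.ext (by simpa using h4 x.1 x.2)⟩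
    obtain ⟨g, hg⟩ := exists_conj_isPGroup_le h hp
    have hle : conjSub g K ≤ rootGroup h := by
      rintro _ ⟨z, hz, rfl⟩
      exact hg z hz
    refine ⟨g, eq_zGroup h (hcc g) ?_ fun x hx => ?_⟩
    · rwa [Ne, Subgroup.map_eq_bot_iff_of_injective _ (MulAut.conj g).injective]
    · obtain ⟨a, b, rfl⟩ := hle hx
      by_cases ha : a = 0
      · exact ⟨b, by rw [ha]⟩
      · exact absurd (hcc g) (not_crit_orderFour h hle ha hx)
  push Not at h4
  obtain ⟨y, hy, hy4⟩ := h4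
  have hy1 : y ≠ 1 := fun e => hy4 (by rw [e, one_pow])
  exfalso
  by_cases hev : 2 ∣ Nat.card K
  · obtain ⟨s, hs⟩ := exists_prime_orderOf_dvd_card' (G := K) 2 hev
    have hs2 : orderOf (s : Cfsg.Sz F m) = 2 := by rw [Subgroup.orderOf_coe]; exact hs
    by_cases hsol : Group.IsSolvable K
    · rcases solvable_le h hsol hbot with ⟨p, hp, hfix⟩ | ⟨C, e, hC, -, hle⟩
      · obtain ⟨u, rfl⟩ := exists_smul_pinf h hp
        have hb : ∀ z ∈ K, u⁻¹ * z * u ∈ Suzuki.borel F m := fun z hz => by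
          show (u⁻¹ * z * u) • Cfsg.suzukiPointInfinity F = Cfsg.suzukiPointInfinity F
          rw [mul_smul, mul_smul, hfix z hz, inv_smul_smul]
        set y' := u⁻¹ * y * u with hy'
        have hy'4 : y' ^ 4 ≠ 1 := by
          have := (pow_four_conj h (g := u⁻¹) (x := y))
          rw [inv_inv] at this
          exact fun e4 => hy4 (this.mp e4)
        have hy'1 : y' ≠ 1 := fun e => hy'4 (by rw [e, one_pow])
        obtain ⟨p₀, hp₀, hpy, hpne⟩ : ∃ p ∈ Cfsg.suzukiOvoid F m, y' • p = p ∧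
            p ≠ Cfsg.suzukiPointInfinity F := by
          rcases classify h hy'1 with ⟨w, hw⟩ | ⟨w, hw⟩ | ⟨C, hC, hyC⟩
          · exact absurd (pow_four_of_conj_root h hw) hy'4
          · obtain ⟨l, hl⟩ := (mem_torus h).mp hw
            have hyw : ∀ r : Projectivization F (Fin 4 → F), H h l • r = r → y' • (w⁻¹ • r) = w⁻¹ • r :=
              fun r er => by rwa [← hl, mul_smul, mul_smul, ← eq_inv_smul_iff] at er
            by_cases e : w⁻¹ • Cfsg.suzukiPointInfinity F = Cfsg.suzukiPointInfinity F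
            · refine ⟨w⁻¹ • pt m (0 : F) 0, smul_mem_ovoid _ (pt_mem _ _), hyw _ (H_smul_pt_zero h l), fun e' => ?_⟩
              exact pt_ne_pinf 0 0 (smul_left_cancel w⁻¹ (e'.trans e.symm))
            · exact ⟨w⁻¹ • Cfsg.suzukiPointInfinity F, smul_mem_ovoid _ pinf_mem, hyw _ (H_smul_pinf h l), e⟩
          · exact absurd (fixFree_of_mem_member h hC hyC hy'1)
              (not_fixFree_of_conj_borel h (u := 1) (by simpa using hb y hy))
        obtain ⟨c, d, rfl⟩ := (mem_ovoid.mp hp₀).resolve_left hpne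
        set g := (T h c d)⁻¹ * u⁻¹ with hg
        have hgK : conjSub g K ≤ Suzuki.borel F m := by
          rintro _ ⟨z, hz, rfl⟩
          show g * z * g⁻¹ ∈ _
          rw [hg, show (T h c d)⁻¹ * u⁻¹ * z * ((T h c d)⁻¹ * u⁻¹)⁻¹ = (T h c d)⁻¹ * (u⁻¹ * z * u) * T h c d by group]
          exact Subgroup.mul_mem _ (Subgroup.mul_mem _ (Subgroup.inv_mem _ (T_mem_borel h c d)) (hb z hz))
            (T_mem_borel h c d)
        have hymem : g * y * g⁻¹ ∈ conjSub g K := ⟨y, hy, rfl⟩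
        obtain ⟨l, hl⟩ := fix_two h (g := g * y * g⁻¹) (hgK hymem) (by
          rw [hg, show (T h c d)⁻¹ * u⁻¹ * y * ((T h c d)⁻¹ * u⁻¹)⁻¹ = (T h c d)⁻¹ * y' * T h c d by rw [hy']; group,
            mul_smul, mul_smul, T_smul_pt_zero, hpy, inv_smul_eq_iff, T_smul_pt_zero])
        have hl1 : l ≠ 1 := fun e => hy1 (by rw [e, H_one, conj_eq_one_iff] at hl; exact hl)
        have hsmem : g * (s : Cfsg.Sz F m) * g⁻¹ ∈ conjSub g K := ⟨s, s.2, rfl⟩
        obtain ⟨b₀, hb₀, hb₀'⟩ := borel_form_of_pow h (hgK hsmem) (by rw [orderOf_conj_eq]; exact hs2)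
        exact not_crit_borel h hgK hl1 (hl ▸ hymem) hb₀ (hb₀' ▸ hsmem) (hcc g)
      · exact not_crit_normalizer h hC hle hy (mem_of_mem_normalizer h hC (hle hy) hy4) hy1 s.2 hs2 hc
    · exact not_crit_nonsolvable h htop hsol hc
  · have hodd : Odd (Nat.card K) := Nat.not_even_iff_odd.mp fun e => hev (even_iff_two_dvd.mp e)
    obtain ⟨C, e, hC, hyC, -⟩ := semisimple_cases h hy4
    refine not_crit_torus h hC (fun z hz => ?_) hy hy1 hc
    rw [← hC.ti y hyC hy1, Subgroup.mem_centralizer_singleton_iff]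
    exact abelian_of_odd h hodd z hz y hy

theorem z_normalised {t g : Cfsg.Sz F m} (ht : t ∈ zGroup h) (ht1 : t ≠ 1) (hg : g * t * g⁻¹ ∈ rootGroup h)
    {z : Cfsg.Sz F m} (hz : z ∈ zGroup h) : g * z * g⁻¹ ∈ zGroup h := by
  obtain ⟨a, b, k, rfl⟩ := borel_form h (fix_pinf_of_conj_mem h (zGroup_le h ht) ht1 hg)
  obtain ⟨d, rfl⟩ := hz
  exact ⟨_, TH_conj_zero h a b k d⟩

theorem binary_zGroup : BinaryOn (zGroup h) := by
  refine binary_of_tri fun x₁ x₂ x₃ u v hu hv huv hu1 hv1 z => ?_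
  have hsq : ∀ x g : Cfsg.Sz F m, g⁻¹ * x * g ∈ zGroup h → x⁻¹ = x := fun x g hx => by
    obtain ⟨b, hb⟩ := hx
    have e : (g⁻¹ * x * g) * (g⁻¹ * x * g) = 1 := by rw [hb, T_sq, θ_zero, zero_mul, T_zero]
    refine inv_eq_of_mul_eq_one_left ?_
    calc x * x = g * ((g⁻¹ * x * g) * (g⁻¹ * x * g)) * g⁻¹ := by group
      _ = 1 := by rw [e]; group
  have hui := hsq u x₁ hu
  have hvi := hsq v x₂ hv
  have hcomm : u * v = v * u := by
    have h3 := hsq _ x₃ huv
    rw [mul_inv_rev, inv_inv, hvi, hui] at h3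
    exact h3.symm
  set u' := x₁⁻¹ * u * x₁ with hu'
  set v' := x₁⁻¹ * v * x₁ with hv'
  have hu'1 : u' ≠ 1 := fun e => hu1 (by
    calc u = x₁ * u' * x₁⁻¹ := by rw [hu']; group
      _ = 1 := by rw [e]; group)
  have hv'1 : v' ≠ 1 := fun e => hv1 (by
    calc v = x₁ * v' * x₁⁻¹ := by rw [hv']; group
      _ = 1 := by rw [e]; group)
  have hv'R : v' ∈ rootGroup h := centralizer_le h (zGroup_le h hu) hu'1 (by
    rw [Subgroup.mem_centralizer_singleton_iff, hu', hv']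
    calc x₁⁻¹ * v * x₁ * (x₁⁻¹ * u * x₁) = x₁⁻¹ * (v * u) * x₁ := by group
      _ = x₁⁻¹ * (u * v) * x₁ := by rw [hcomm]
      _ = x₁⁻¹ * u * x₁ * (x₁⁻¹ * v * x₁) := by group)
  have hv'2 : v' * v' = 1 := by
    rw [hv', show x₁⁻¹ * v * x₁ * (x₁⁻¹ * v * x₁) = x₁⁻¹ * (v * v) * x₁ by group]
    nth_rewrite 2 [← hvi]
    group
  have hv'Z := involution_in_rootGroup h hv'R hv'2
  -- the transporter normalises the centre
  set g := x₂⁻¹ * x₁ with hg
  have hgv : g * v' * g⁻¹ = x₂⁻¹ * v * x₂ := by rw [hg, hv']; group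
  have hback : x₂⁻¹ * v * x₂ ≠ 1 := fun e => hv'1 (by
    rw [← hgv, conj_eq_one_iff] at e
    exact e)
  constructor
  · intro hz
    have := z_normalised h hv'Z hv'1 (g := g) (by rw [hgv]; exact zGroup_le h hv) hz
    rwa [hg, show x₂⁻¹ * x₁ * (x₁⁻¹ * z * x₁) * (x₂⁻¹ * x₁)⁻¹ = x₂⁻¹ * z * x₂ by group] at this
  · intro hz
    have := z_normalised h hv hback (g := g⁻¹) (by
      rw [← hgv, show g⁻¹ * (g * v' * g⁻¹) * g⁻¹⁻¹ = v' by group]; exact hv'R) hz
    rwa [hg, show (x₂⁻¹ * x₁)⁻¹ * (x₂⁻¹ * z * x₂) * (x₂⁻¹ * x₁)⁻¹⁻¹ = x₁⁻¹ * z * x₁ by group] at this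

end Cfsg.Agent.SzBinary
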