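import Mathlib.FieldTheory.Finite.Basic
import Mathlib.GroupTheory.Index
import Mathlib.Algebra.CharP.Two
import Mathlib.Tactic

/-!
Multiples of an additive subgroup of a finite field of characteristic two that do not form a
distributive triple.
-/

set_option autoImplicit false

namespace Cfsg.Agent.SzBinary

variable {F : Type*} [Field F] [Fintype F]

/-- The scaled subgroup `{c : μ c ∈ U}`. -/
def pull (U : AddSubgroup F) (μ : F) : AddSubgroup F := U.comap (AddMonoidHom.mulLeft μ)

omit [Fintype F] in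
theorem mem_pull {U : AddSubgroup F} {μ c : F} : c ∈ pull U μ ↔ μ * c ∈ U := Iff.rfl

theorem card_pull (U : AddSubgroup F) {μ : F} (hμ : μ ≠ 0) : Nat.card (pull U μ) = Nat.card U :=
  Nat.card_congr ((Equiv.mulLeft₀ μ hμ).subtypeEquiv fun _ => Iff.rfl)

theorem arith {n i k : ℕ} (hw : (2 ^ i - 1) * (2 ^ n - 2) ≤ (2 ^ k - 1) * (2 ^ k - 2)) (hn : 3 ≤ n)
    (hlarge : 2 ^ n < (2 ^ k) * (2 ^ k)) (hk : k < n) : (2 ^ i) * (2 ^ i) * 2 ^ n < (2 ^ k) ^ 3 := by
  have hnk : n < 2 * k := by
    rw [← pow_add] at hlarge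
    have := (Nat.pow_lt_pow_iff_right (by norm_num : 1 < 2)).1 hlarge
    omega
  have hi : i + n ≤ 2 * k := by
    by_contra hc
    have h1 : 2 * (2 ^ k * 2 ^ k) ≤ 2 ^ i * 2 ^ n := by
      rw [← pow_add, ← pow_add, ← pow_succ']
      exact Nat.pow_le_pow_right (by norm_num) (by omega)
    have hq : 8 ≤ 2 ^ n := le_trans (by norm_num) (Nat.pow_le_pow_right (by norm_num) hn)
    have h2 : 2 * 2 ^ n ≤ 2 ^ k * 2 ^ k := by
      rw [← pow_add, ← pow_succ']
      exact Nat.pow_le_pow_right (by norm_num) (by omega)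
    have hu : 2 ≤ 2 ^ k := le_trans (by norm_num) (Nat.pow_le_pow_right (by norm_num) (show 1 ≤ k by omega))
    have hw1 : 1 ≤ 2 ^ i := Nat.one_le_two_pow
    generalize ((2 : ℕ) ^ n) = q at *
    generalize ((2 : ℕ) ^ k) = u at *
    generalize ((2 : ℕ) ^ i) = w at *
    have hu' := hu
    zify [hw1, show 2 ≤ q by omega, show 1 ≤ u by omega, hu'] at hw
    zify at hq h1 h2 hu'
    nlinarith [mul_le_mul_of_nonneg_left hw (show (0 : ℤ) ≤ q by positivity),
      mul_le_mul_of_nonneg_right h1 (show (0 : ℤ) ≤ (q : ℤ) - 2 by linarith),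
      mul_le_mul_of_nonneg_right h2 (show (0 : ℤ) ≤ (q : ℤ) - 4 by linarith),
      mul_le_mul_of_nonneg_right hu' (show (0 : ℤ) ≤ (q : ℤ) by linarith)]
  rw [← pow_add, ← pow_add, ← pow_mul]
  exact Nat.pow_lt_pow_right (by norm_num) (by omega)

theorem exists_triple [CharP F 2] (hq : 8 ≤ Fintype.card F) (U : AddSubgroup F) (hU0 : U ≠ ⊥) (hU1 : U ≠ ⊤) :
    ∃ α β u v w : F, α ≠ 0 ∧ β ≠ 0 ∧ u ∈ U ∧ α * v ∈ U ∧ β * w ∈ U ∧ u = v + w ∧
      ∀ a b, a ∈ U → α * a ∈ U → b ∈ U → β * b ∈ U → a + b ≠ u := by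
  classical
  obtain ⟨u₀, hu₀, hu₀0⟩ : ∃ u₀ ∈ U, u₀ ≠ 0 := by
    by_contra h
    push Not at h
    exact hU0 (eq_bot_iff.2 fun x hx => h x hx)
  set S : Finset F := Finset.univ.filter (fun x => x ∈ U ∧ x ≠ 0) with hS
  have hScard : S.card + 1 = Nat.card U := by
    have h1 : S = (Finset.univ.filter (fun x => x ∈ U)).erase 0 := by ext; simp [hS, and_comm]
    rw [h1, Finset.card_erase_add_one (by simp [U.zero_mem]), Nat.card_eq_fintype_card, Fintype.card_subtype]
  set R : Finset F := (S ×ˢ S).image (fun p => p.1 / p.2) ∪ {0, 1} with hR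
  by_cases hex : ∃ α, α ∉ R
  · obtain ⟨α, hα⟩ := hex
    simp only [hR, hS, Finset.mem_union, Finset.mem_image, Finset.mem_product, Finset.mem_filter,
      Finset.mem_univ, true_and, Finset.mem_insert, Finset.mem_singleton, not_or, not_exists] at hα
    obtain ⟨hrat, hα0, hα1⟩ := hα
    have hdis : ∀ x ∈ U, α * x ∈ U → x = 0 := fun x hx hax => by
      by_contra hx0
      exact hrat (α * x, x) ⟨⟨⟨hax, mul_ne_zero hα0 hx0⟩, hx, hx0⟩, by rw [mul_div_assoc, div_self hx0, mul_one]⟩
    have h1a : 1 + α ≠ 0 := fun e => hα1 (CharTwo.add_eq_zero.1 e).symm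
    obtain ⟨u, hu, hbad⟩ : ∃ u ∈ U, (1 + α)⁻¹ * u ∉ U := by
      by_contra h
      push Not at h
      have hy := h u₀ hu₀
      set y := (1 + α)⁻¹ * u₀ with hy'
      have hy0 : y ≠ 0 := mul_ne_zero (inv_ne_zero h1a) hu₀0
      have h2 : y + α * y = u₀ := by
        rw [hy', show (1 + α)⁻¹ * u₀ + α * ((1 + α)⁻¹ * u₀) = (1 + α) * (1 + α)⁻¹ * u₀ by ring,
          mul_inv_cancel₀ h1a, one_mul]
      refine hy0 (hdis y hy ?_)
      rw [show α * y = u₀ - y by rw [← h2]; ring]
      exact U.sub_mem hu₀ hy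
    refine ⟨α⁻¹, (1 + α)⁻¹, u, α * u, (1 + α) * u, inv_ne_zero hα0, inv_ne_zero h1a, hu, ?_, ?_, ?_, ?_⟩
    · rwa [inv_mul_cancel_left₀ hα0]
    · rwa [inv_mul_cancel_left₀ h1a]
    · rw [show α * u + (1 + α) * u = u + (α * u + α * u) by ring, CharTwo.add_self_eq_zero, add_zero]
    · intro a b ha haa _hb hbb e
      have : a = 0 := by
        have := hdis (α⁻¹ * a) haa (by rwa [mul_inv_cancel_left₀ hα0])
        simpa [hα0] using this
      rw [this, zero_add] at e
      exact hbad (e ▸ hbb)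
  · push Not at hex
    set q := Fintype.card F with hqdef
    have hRcard : q ≤ S.card * S.card + 2 := by
      calc q = (Finset.univ : Finset F).card := rfl
        _ ≤ R.card := Finset.card_le_card fun x _ => hex x
        _ ≤ _ := by
          refine (Finset.card_union_le _ _).trans (Nat.add_le_add ?_ (by simp [zero_ne_one]))
          exact Finset.card_image_le.trans (by rw [Finset.card_product])
    set A : Finset F := Finset.univ.filter (fun α => α ≠ 0 ∧ α ≠ 1) with hA
    have hAcard : A.card = q - 2 := by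
      have h1 : A = (Finset.univ : Finset F) \ {0, 1} := by ext; simp [hA]
      rw [h1, Finset.card_sdiff_of_subset (Finset.subset_univ _)]
      simp [hqdef]
    let fA : F → Finset F := fun α => S.filter (fun x => α * x ∈ U)
    have hsum : ∑ α ∈ A, (fA α).card ≤ S.card * (S.card - 1) := by
      rw [show ∑ α ∈ A, (fA α).card = (A.sigma fA).card by rw [Finset.card_sigma]]
      refine le_trans (Finset.card_le_card_of_injOn (fun p : (_ : F) × F => (p.1 * p.2, p.2))
        (t := (S ×ˢ S).filter (fun p => p.1 ≠ p.2)) ?_ ?_) ?_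
      · rintro ⟨α, x⟩ hp
        simp only [Finset.mem_coe, Finset.mem_sigma, hA, fA, hS, Finset.mem_filter, Finset.mem_univ, true_and] at hp
        obtain ⟨⟨hα0, hα1⟩, ⟨hx, hx0⟩, hax⟩ := hp
        simp only [Finset.mem_coe, Finset.mem_filter, Finset.mem_product, hS, Finset.mem_univ, true_and]
        refine ⟨⟨⟨hax, mul_ne_zero hα0 hx0⟩, hx, hx0⟩, fun e => hα1 ?_⟩
        exact mul_right_cancel₀ hx0 (e.trans (one_mul x).symm)
      · rintro ⟨α, x⟩ hp ⟨α', x'⟩ hp' e
        simp only [Prod.mk.injEq] at e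
        obtain ⟨e1, rfl⟩ := e
        simp only [Finset.mem_coe, Finset.mem_sigma, fA, hS, Finset.mem_filter] at hp
        rw [mul_right_cancel₀ hp.2.1.2.2 e1]
      · have h1 : (S ×ˢ S).filter (fun p => p.1 ≠ p.2) = S.offDiag := by
          ext p; simp [Finset.mem_offDiag, and_assoc]
        rw [h1, Finset.offDiag_card, Nat.mul_sub, mul_one]
    have hne : A.Nonempty := Finset.card_pos.1 (by omega)
    obtain ⟨α, hα, hmin⟩ := Finset.exists_min_image A (fun α => (fA α).card) hne
    have hmul : (fA α).card * (q - 2) ≤ S.card * (S.card - 1) := by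
      refine le_trans ?_ hsum
      calc (fA α).card * (q - 2) = A.card • (fA α).card := by rw [hAcard, smul_eq_mul, mul_comm]
        _ ≤ _ := Finset.card_nsmul_le_sum A _ _ fun β hβ => hmin β hβ
    simp only [hA, Finset.mem_filter, Finset.mem_univ, true_and] at hα
    obtain ⟨hα0, hα1⟩ := hα
    set β := 1 + α with hβdef
    have hβ0 : β ≠ 0 := fun e => hα1 (CharTwo.add_eq_zero.1 e).symm
    set W := U ⊓ pull U α with hW
    have hWβ : ∀ x ∈ W, β * x ∈ U := fun x hx => by
      rw [hβdef, add_mul, one_mul]; exact U.add_mem hx.1 hx.2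
    have hβW : ∀ x ∈ U, β * x ∈ U → x ∈ W := fun x hx hbx => ⟨hx, by
      show α * x ∈ U
      rw [show α * x = β * x - x by rw [hβdef]; ring]
      exact U.sub_mem hbx hx⟩
    by_contra hno
    -- the kernel of the summation map
    have key : ∀ (u v w : F), u ∈ U → α * v ∈ U → β * w ∈ U → u = v + w → u ∈ W := by
      intro u v w hu hv hw e
      by_contra huW
      refine hno ⟨α, β, u, v, w, hα0, hβ0, hu, hv, hw, e, fun a b ha haa hb hbb e' => huW ?_⟩
      rw [← e']
      exact W.add_mem ⟨ha, haa⟩ (hβW b hb hbb)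
    let φ : (U × pull U α × pull U β) →+ F := AddMonoidHom.mk'
      (fun p => p.1.1 + p.2.1.1 + p.2.2.1) (fun p p' => by simp; ring)
    let ψ : φ.ker → W × W := fun p =>
      (⟨p.1.1.1, key p.1.1.1 p.1.2.1.1 p.1.2.2.1 p.1.1.2 p.1.2.1.2 p.1.2.2.2 (by
        have := p.2
        rw [AddMonoidHom.mem_ker] at this
        change p.1.1.1 + p.1.2.1.1 + p.1.2.2.1 = 0 at this
        rw [add_assoc] at this
        exact CharTwo.add_eq_zero.1 this)⟩,
       ⟨p.1.2.1.1, by
        have h0 := p.2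
        rw [AddMonoidHom.mem_ker] at h0
        change p.1.1.1 + p.1.2.1.1 + p.1.2.2.1 = 0 at h0
        set u := p.1.1.1
        set v := p.1.2.1.1
        set w := p.1.2.2.1
        have hv : α * v ∈ U := p.1.2.1.2
        have hw : β * w ∈ U := p.1.2.2.2
        have huW : u ∈ W := key u v w p.1.1.2 hv hw (CharTwo.add_eq_zero.1 (by rw [← add_assoc]; exact h0))
        have hbv : β * v ∈ U := by
          have : v = u + w := CharTwo.add_eq_zero.1 (by rw [show v + (u + w) = u + v + w by ring]; exact h0)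
          rw [this, mul_add]; exact U.add_mem (hWβ u huW) hw
        refine ⟨?_, hv⟩
        have := U.sub_mem hbv hv
        rwa [show β * v - α * v = v by rw [hβdef]; ring] at this⟩)
    have hψ : Function.Injective ψ := by
      intro p p' e
      simp only [ψ, Prod.mk.injEq, Subtype.mk.injEq] at e
      have h0 := p.2; have h0' := p'.2
      rw [AddMonoidHom.mem_ker] at h0 h0'
      change p.1.1.1 + p.1.2.1.1 + p.1.2.2.1 = 0 at h0
      change p'.1.1.1 + p'.1.2.1.1 + p'.1.2.2.1 = 0 at h0'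
      rw [e.1, e.2] at h0
      exact Subtype.ext (Prod.ext (Subtype.ext e.1) (Prod.ext (Subtype.ext e.2)
        (Subtype.ext (add_left_cancel (h0.trans h0'.symm)))))
    have hker := Nat.card_le_card_of_injective ψ hψ
    rw [Nat.card_prod] at hker
    have htot := φ.ker.card_mul_index
    rw [AddSubgroup.index_ker, Nat.card_prod, Nat.card_prod, card_pull U hα0, card_pull U hβ0] at htot
    have hrange : Nat.card φ.range ≤ q := by
      rw [hqdef, ← Nat.card_eq_fintype_card]; exact AddSubgroup.card_le_card_addGroup _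
    -- cardinalities
    obtain ⟨n, hn⟩ : ∃ n, q = 2 ^ n := by
      obtain ⟨n, -, hn⟩ := FiniteField.card F 2
      exact ⟨n, hn⟩
    have hqF : Nat.card F = 2 ^ n := by rw [Nat.card_eq_fintype_card]; exact hn
    obtain ⟨k, hkn, hk⟩ := (Nat.dvd_prime_pow Nat.prime_two).1 (hqF ▸ AddSubgroup.card_addSubgroup_dvd_card U)
    obtain ⟨i, -, hi⟩ := (Nat.dvd_prime_pow Nat.prime_two).1 (hqF ▸ AddSubgroup.card_addSubgroup_dvd_card W)
    have hWcard : (fA α).card + 1 = Nat.card W := by
      have h1 : fA α = (Finset.univ.filter (fun x => x ∈ W)).erase 0 := by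
        ext x; simp [fA, hS, hW, AddSubgroup.mem_inf, mem_pull]; tauto
      rw [h1, Finset.card_erase_add_one (by simp [W.zero_mem]), Nat.card_eq_fintype_card, Fintype.card_subtype]
    have hlt : k < n := by
      refine lt_of_le_of_ne hkn fun e => hU1 ?_
      exact AddSubgroup.eq_top_of_card_eq _ (by rw [hk, e, hqF])
    have hn3 : 3 ≤ n := by
      by_contra hc
      have : q ≤ 2 ^ 2 := hn ▸ Nat.pow_le_pow_right (by norm_num) (by omega)
      omega
    have hfin := arith (n := n) (i := i) (k := k)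
      (by rw [← hn, ← hi, ← hk, ← hWcard, ← hScard]; simpa using hmul) hn3
      (by
        rw [← hn, ← hk, ← hScard]
        have h1 : 1 ≤ S.card := Finset.card_pos.2 ⟨u₀, by simp [hS, hu₀, hu₀0]⟩
        nlinarith)
      hlt
    rw [← hn, ← hi, ← hk] at hfin
    nlinarith [Nat.mul_le_mul hker hrange, hfin, htot]

end Cfsg.Agent.SzBinary
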