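import Mathlib.GroupTheory.Coset.Basic
import Mathlib.GroupTheory.GroupAction.Quotient
import Mathlib.Algebra.Group.Subgroup.Map
import Mathlib.Data.Fin.VecNotation
import Mathlib.Tactic.Group
import Mathlib.Tactic.FinCases
import Mathlib.Tactic.NormNum

/-!
Binary actions on cosets: a necessary condition read off from triples, and a sufficient condition for
trivially intersecting point stabilisers.
-/

set_option autoImplicit false

namespace Cfsg.Agent.SzBinary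

variable {G : Type*} [Group G]

/-- The action on the cosets of `H` is binary. -/
def BinaryOn (H : Subgroup G) : Prop :=
  ∀ (n : ℕ) (I J : Fin n → G ⧸ H), 2 ≤ n →
    (∀ i j : Fin n, i ≠ j → ∃ g : G, g • I i = J i ∧ g • I j = J j) → ∃ g : G, ∀ i, g • I i = J i

/-- The condition that binarity imposes on three cosets. -/
def Crit (H : Subgroup G) : Prop :=
  ∀ g₂ g₃ u v w : G, u ∈ H → g₂⁻¹ * v * g₂ ∈ H → g₃⁻¹ * w * g₃ ∈ H → u = v * w →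
    ∃ a b : G, (a ∈ H ∧ g₂⁻¹ * a * g₂ ∈ H) ∧ (b ∈ H ∧ g₃⁻¹ * b * g₃ ∈ H) ∧ u = a * b

theorem crit_of_binary {H : Subgroup G} (hb : BinaryOn H) : Crit H := by
  intro g₂ g₃ u v w hu hv hw huvw
  have e0 : ∀ g : G, g • ((1 : G) : G ⧸ H) = ((1 : G) : G ⧸ H) ↔ g ∈ H := fun g => by
    rw [MulAction.Quotient.smul_coe, QuotientGroup.eq]; simp
  have e2 : ∀ g x y : G, g • ((x : G) : G ⧸ H) = ((y : G) : G ⧸ H) ↔ y⁻¹ * g * x ∈ H := fun g x y => by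
    rw [MulAction.Quotient.smul_coe, eq_comm, QuotientGroup.eq, smul_eq_mul, mul_assoc]
  have h01 : ∃ g : G, g • ((1 : G) : G ⧸ H) = ((1 : G) : G ⧸ H) ∧ g • ((g₂ : G) : G ⧸ H) = ((g₂ : G) : G ⧸ H) :=
    ⟨1, one_smul _ _, one_smul _ _⟩
  have h02 : ∃ g : G, g • ((1 : G) : G ⧸ H) = ((1 : G) : G ⧸ H) ∧
      g • ((g₃ : G) : G ⧸ H) = (((u * g₃ : G)) : G ⧸ H) :=
    ⟨u, (e0 u).2 hu, (e2 _ _ _).2 (by rw [show (u * g₃)⁻¹ * u * g₃ = 1 by group]; exact H.one_mem)⟩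
  have h12 : ∃ g : G, g • ((g₂ : G) : G ⧸ H) = ((g₂ : G) : G ⧸ H) ∧
      g • ((g₃ : G) : G ⧸ H) = (((u * g₃ : G)) : G ⧸ H) :=
    ⟨v, (e2 _ _ _).2 hv, (e2 _ _ _).2 (by
      rw [huvw, show (v * w * g₃)⁻¹ * v * g₃ = (g₃⁻¹ * w * g₃)⁻¹ by group]; exact H.inv_mem hw)⟩
  obtain ⟨g, hg⟩ := hb 3 ![((1 : G) : G ⧸ H), ((g₂ : G) : G ⧸ H), ((g₃ : G) : G ⧸ H)]
    ![((1 : G) : G ⧸ H), ((g₂ : G) : G ⧸ H), (((u * g₃ : G)) : G ⧸ H)] (by norm_num) (by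
      intro i j hij
      fin_cases i <;> fin_cases j <;> first
        | exact absurd rfl hij
        | exact h01
        | exact h02
        | exact h12
        | exact ⟨h01.choose, h01.choose_spec.2, h01.choose_spec.1⟩
        | exact ⟨h02.choose, h02.choose_spec.2, h02.choose_spec.1⟩
        | exact ⟨h12.choose, h12.choose_spec.2, h12.choose_spec.1⟩)
  have hg0 : g ∈ H := (e0 g).1 (hg 0)
  refine ⟨g, g⁻¹ * u, ⟨hg0, (e2 g g₂ g₂).1 (hg 1)⟩, ⟨H.mul_mem (H.inv_mem hg0) hu, ?_⟩, by group⟩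
  have h := H.inv_mem ((e2 g g₃ (u * g₃)).1 (hg 2))
  rwa [show ((u * g₃)⁻¹ * g * g₃)⁻¹ = g₃⁻¹ * (g⁻¹ * u) * g₃ by group] at h

theorem crit_map {G' : Type*} [Group G'] (e : G ≃* G') {H : Subgroup G} {K : Subgroup G'}
    (hK : ∀ x, x ∈ H ↔ e x ∈ K) (hc : Crit K) : Crit H := by
  intro g₂ g₃ u v w hu hv hw huvw
  obtain ⟨a, b, ⟨ha, ha'⟩, ⟨hb, hb'⟩, hab⟩ := hc (e g₂) (e g₃) (e u) (e v) (e w) ((hK u).1 hu)
    (by simpa using (hK _).1 hv) (by simpa using (hK _).1 hw) (by rw [huvw, map_mul])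
  refine ⟨e.symm a, e.symm b, ⟨(hK _).2 (by simpa using ha), (hK _).2 (by simpa using ha')⟩,
    ⟨(hK _).2 (by simpa using hb), (hK _).2 (by simpa using hb')⟩, e.injective ?_⟩
  simp [hab]

theorem crit_conj {H K : Subgroup G} (c : G) (hK : ∀ x, x ∈ K ↔ c⁻¹ * x * c ∈ H) (hc : Crit H) : Crit K := by
  refine crit_map (MulAut.conj c⁻¹) (fun x => ?_) hc
  rw [hK x, MulAut.conj_apply, inv_inv]

theorem binary_bot : BinaryOn (⊥ : Subgroup G) := by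
  intro n I J hn h
  set i₀ : Fin n := ⟨0, by omega⟩
  set i₁ : Fin n := ⟨1, by omega⟩
  have h01 : i₀ ≠ i₁ := by simp [i₀, i₁, Fin.ext_iff]
  obtain ⟨g, hg, -⟩ := h i₀ i₁ h01
  refine ⟨g, fun i => ?_⟩
  by_cases hi : i₀ = i
  · rw [← hi]; exact hg
  obtain ⟨g', hg0, hgi⟩ := h i₀ i hi
  obtain ⟨x, hx⟩ := QuotientGroup.mk_surjective (I i₀)
  have e : g = g' := by
    have h1 := hg.trans hg0.symm
    rw [← hx, MulAction.Quotient.smul_coe, MulAction.Quotient.smul_coe, QuotientGroup.eq,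
      Subgroup.mem_bot, inv_mul_eq_one] at h1
    simpa using h1
  rwa [e]

/-- Three point stabilisers meeting pairwise trivially admit no proper triangle. -/
theorem binary_of_tri {H : Subgroup G}
    (htri : ∀ x₁ x₂ x₃ u v : G, x₁⁻¹ * u * x₁ ∈ H → x₂⁻¹ * v * x₂ ∈ H → x₃⁻¹ * (u⁻¹ * v) * x₃ ∈ H →
      u ≠ 1 → v ≠ 1 → ∀ z, x₁⁻¹ * z * x₁ ∈ H ↔ x₂⁻¹ * z * x₂ ∈ H) :
    BinaryOn H := by
  intro n I J hn h
  classical
  choose x hx using fun i => QuotientGroup.mk_surjective (I i)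
  choose y hy using fun i => QuotientGroup.mk_surjective (J i)
  have hmem : ∀ (g : G) i, g • I i = J i ↔ (y i)⁻¹ * g * x i ∈ H := fun g i => by
    rw [← hx i, ← hy i, MulAction.Quotient.smul_coe, eq_comm, QuotientGroup.eq, smul_eq_mul, mul_assoc]
  have hsame : ∀ (g g' : G) i, g • I i = J i → g' • I i = J i → (x i)⁻¹ * (g⁻¹ * g') * x i ∈ H := by
    intro g g' i hg hg'
    rw [hmem] at hg hg'
    have := H.mul_mem (H.inv_mem hg) hg'
    rwa [show ((y i)⁻¹ * g * x i)⁻¹ * ((y i)⁻¹ * g' * x i) = (x i)⁻¹ * (g⁻¹ * g') * x i by group] at this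
  have hmove : ∀ (g g' : G) i, g • I i = J i → (x i)⁻¹ * (g⁻¹ * g') * x i ∈ H → g' • I i = J i := by
    intro g g' i hg hs
    rw [hmem] at hg ⊢
    have := H.mul_mem hg hs
    rwa [show (y i)⁻¹ * g * x i * ((x i)⁻¹ * (g⁻¹ * g') * x i) = (y i)⁻¹ * g' * x i by group] at this
  set i₀ : Fin n := ⟨0, by omega⟩
  set i₁ : Fin n := ⟨1, by omega⟩
  have h01 : i₀ ≠ i₁ := by simp [i₀, i₁, Fin.ext_iff]
  by_cases hall : ∀ i z, (x i)⁻¹ * z * x i ∈ H ↔ (x i₀)⁻¹ * z * x i₀ ∈ H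
  · obtain ⟨g, hg, -⟩ := h i₀ i₁ h01
    refine ⟨g, fun i => ?_⟩
    by_cases hi : i₀ = i
    · rw [← hi]; exact hg
    obtain ⟨g', hg0, hgi⟩ := h i₀ i hi
    exact hmove g' g i hgi ((hall i _).2 (hsame g' g i₀ hg0 hg))
  · push Not at hall
    obtain ⟨j, z, hz⟩ := hall
    have hj : i₀ ≠ j := by rintro rfl; tauto
    obtain ⟨g, hg, hgj⟩ := h i₀ j hj
    refine ⟨g, fun i => ?_⟩
    by_cases hi : i₀ = i
    · rw [← hi]; exact hg
    by_cases hij : j = i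
    · rw [← hij]; exact hgj
    obtain ⟨a, ha0, hai⟩ := h i₀ i hi
    obtain ⟨b, hbj, hbi⟩ := h j i hij
    by_cases hu : g⁻¹ * a = 1
    · rw [inv_mul_eq_one.1 hu]; exact hai
    by_cases hv : g⁻¹ * b = 1
    · rw [inv_mul_eq_one.1 hv]; exact hbi
    exfalso
    have := htri (x i₀) (x j) (x i) (g⁻¹ * a) (g⁻¹ * b) (hsame g a i₀ hg ha0) (hsame g b j hgj hbj)
      (by rw [show (g⁻¹ * a)⁻¹ * (g⁻¹ * b) = a⁻¹ * b by group]; exact hsame a b i hai hbi) hu hv z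
    tauto

end Cfsg.Agent.SzBinary
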