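import Cfsg.Agent.Lib.SzBinary.Common
import Cfsg.Agent.Lib.SzBinary.Field
import Cfsg.Agent.Lib.Suzuki.ClassSquare

/-!
Subgroups of a point stabiliser of a Suzuki group, other than the centre of its Sylow 2-subgroup,
give actions that are not binary.
-/

set_option autoImplicit false
set_option linter.unusedSectionVars false

namespace Cfsg.Agent.SzBinary

open Cfsg.Agent.Suzuki

variable {F : Type*} [Field F] [Fintype F] {m : ℕ} (h : SzField F m)

include h

/-- An elementary abelian 2-subgroup is the whole centre of the root group. -/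
theorem eq_zGroup {K : Subgroup (Cfsg.Sz F m)} (hc : Crit K) (hne : K ≠ ⊥) (hKZ : K ≤ zGroup h) :
    K = zGroup h := by
  by_contra hK
  haveI := h.charP
  let U : AddSubgroup F :=
    { carrier := {b | T h 0 b ∈ K}
      zero_mem' := by simp [T_zero, K.one_mem]
      add_mem' := fun {b d} hb hd => by
        show T h 0 (b + d) ∈ K
        rw [← T_zero_mul h b 0 d]; exact K.mul_mem hb hd
      neg_mem' := fun {b} hb => by
        show T h 0 (-b) ∈ K
        rwa [h.neg_eq] }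
  have hU : ∀ b, b ∈ U ↔ T h 0 b ∈ K := fun b => Iff.rfl
  have hU0 : U ≠ ⊥ := fun e => hne <| (Subgroup.eq_bot_iff_forall K).2 fun x hx => by
    obtain ⟨b, rfl⟩ := hKZ hx
    have : b ∈ U := hx
    rw [e, AddSubgroup.mem_bot] at this
    rw [this, T_zero]
  have hU1 : U ≠ ⊤ := fun e => hK <| le_antisymm hKZ <| by
    rintro _ ⟨b, rfl⟩
    exact (hU b).1 (e ▸ AddSubgroup.mem_top b)
  obtain ⟨α, β, u, v, w, hα, hβ, hu, hv, hw, huvw, hno⟩ := exists_triple h.eight_le_card U hU0 hU1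
  obtain ⟨k₂, hk₂⟩ := exists_units_of_theta h hα
  obtain ⟨k₃, hk₃⟩ := exists_units_of_theta h hβ
  have hconj : ∀ (k : Fˣ) (c : F), ((H h k)⁻¹)⁻¹ * T h 0 c * (H h k)⁻¹ = T h 0 (θ m (k : F) * k * c) :=
    fun k c => by rw [inv_inv, H_conj_zero]
  obtain ⟨a, b, ⟨ha, ha'⟩, ⟨hb, hb'⟩, hab⟩ := hc (H h k₂)⁻¹ (H h k₃)⁻¹ (T h 0 u) (T h 0 v) (T h 0 w) hu
    (by rw [hconj, hk₂]; exact hv) (by rw [hconj, hk₃]; exact hw) (by rw [T_zero_mul, huvw])
  obtain ⟨a', rfl⟩ := hKZ ha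
  obtain ⟨b', rfl⟩ := hKZ hb
  rw [hconj, hk₂] at ha'
  rw [hconj, hk₃] at hb'
  rw [T_zero_mul] at hab
  exact hno a' b' ha ha' hb hb' ((T_injective h hab).2).symm

/-- A 2-subgroup with an element of order four. -/
theorem not_crit_orderFour_normal {K : Subgroup (Cfsg.Sz F m)} (hKR : K ≤ rootGroup h) {β : F}
    (hr : T h 1 β ∈ K) : ¬ Crit K := by
  intro hc
  set r := T h 1 β with hrdef
  have hr1 : r ≠ 1 := fun e => one_ne_zero ((eq_one_iff_T h).mp e).1
  set ρ := fz m 1 β with hρ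
  have hρ0 : ρ ≠ 0 := fun e => one_ne_zero (h.fz_eq_zero e).1
  set z := 1 / ρ with hz
  have hz0 : z ≠ 0 := one_div_ne_zero hρ0
  set g := W h * H h (Units.mk0 z hz0) with hg
  have hgc : g * r * g⁻¹ = W h * T h z (θ m z * z * β) * W h := by
    rw [hg, hrdef, show W h * H h (Units.mk0 z hz0) * T h 1 β * (W h * H h (Units.mk0 z hz0))⁻¹ =
      W h * (H h (Units.mk0 z hz0) * T h 1 β * (H h (Units.mk0 z hz0))⁻¹) * (W h)⁻¹ by group, H_conj_T, W_inv]
    simp
  set v := r * (g * r * g⁻¹) with hv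
  have hg0 : g • Cfsg.suzukiPointInfinity F = pt m 0 0 := by rw [hg, mul_smul, H_smul_pinf, W_smul_pinf]
  have hv4 : v ^ 4 = 1 := by
    by_contra h4
    refine (semisimple_tr h).1 v h4 ?_
    rw [hv, hgc, hrdef, tr_T_W_T_W h, one_mul, θ_one, one_mul, one_mul, ← hρ]
    have hfz : fz m z (θ m z * z * β) = θ m z * z ^ 2 * ρ := by
      rw [hρ, fz_eq, fz_eq, θ_mul, θ_mul, h.θ_θ, θ_one]; ring
    rw [hfz]
    have hzρ : z * ρ = 1 := by rw [hz]; field_simp
    linear_combination (θ m z * (z * ρ + 1)) * hzρ + (θ m z + θ m z * z * β) * h.two_eq_zero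
  -- the conjugate fixes only the origin
  have hfix : ∀ a : Cfsg.Sz F m, a ∈ rootGroup h → ∀ g' : Cfsg.Sz F m,
      g' • Cfsg.suzukiPointInfinity F ≠ Cfsg.suzukiPointInfinity F → g'⁻¹ * a * g' ∈ rootGroup h → a = 1 := by
    intro a ha g' hne ha'
    by_contra ha1
    obtain ⟨c, d, rfl⟩ := ha
    exact hne (T_fix_eq h ha1 (smul_mem_ovoid g' pinf_mem)
      (smul_pinf_fix h (rootGroup_le_borel h ha')))
  have hg0' : g • Cfsg.suzukiPointInfinity F ≠ Cfsg.suzukiPointInfinity F := by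
    rw [hg0]; exact pt_ne_pinf 0 0
  have hvb : v ∉ borel F m := fun hb => by
    have h1 : r⁻¹ * v ∈ borel F m :=
      (borel F m).mul_mem ((borel F m).inv_mem (rootGroup_le_borel h (hKR hr))) hb
    rw [hv, ← mul_assoc, inv_mul_cancel, one_mul] at h1
    have h2 : g * r * g⁻¹ ∈ rootGroup h :=
      borel_two_elt h h1 (n := 2) ((pow_four_conj h).2 (pow_four_of_mem_root h (hKR hr)))
    have h3 := hfix (g * r * g⁻¹) h2 g hg0' (by simpa [mul_assoc] using hKR hr)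
    exact hr1 (conj_eq_one_iff.mp h3)
  have hv1 : v ≠ 1 := fun e => hvb (e ▸ Subgroup.one_mem _)
  -- a conjugate of `v` in `K`
  obtain ⟨g₂, hg₂⟩ : ∃ g₂, g₂⁻¹ * v * g₂ ∈ K := by
    have hexp : ∀ y, IsConj y v → y ∈ K → ∃ g₂, g₂⁻¹ * v * g₂ ∈ K := fun y hy hyK => by
      obtain ⟨c, hc'⟩ := isConj_iff.mp hy
      exact ⟨c, by rw [← hc']; simpa [mul_assoc] using hyK⟩
    by_cases h2 : v ^ 2 = 1
    · refine hexp (r * r) (involutions_conj h ?_ (orderOf_eq_prime_iff.mpr ⟨h2, hv1⟩)) (K.mul_mem hr hr)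
      rw [hrdef, T_sq, θ_one, one_mul]
      exact order_two_T h one_ne_zero
    · have ho : ∀ y : Cfsg.Sz F m, y ^ 4 = 1 → y ^ 2 ≠ 1 → orderOf y = 4 := fun y h4 h2' => by
        have := orderOf_eq_prime_pow (p := 2) (n := 1) (x := y) (by simpa using h2') (by simpa using h4)
        simpa using this
      have hr2 : r ^ 2 ≠ 1 := by
        rw [pow_two, hrdef, T_sq, θ_one, one_mul]
        exact fun e => one_ne_zero ((eq_one_iff_T h).mp e).2
      rcases orderFour_classes h (ho r (pow_four_of_mem_root h (hKR hr)) hr2) (ho v hv4 h2) with hh | hh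
      · exact hexp r hh hr
      · exact hexp r⁻¹ hh (K.inv_mem hr)
  have hg₂' : g₂ • Cfsg.suzukiPointInfinity F ≠ Cfsg.suzukiPointInfinity F := fun e => hvb (by
    have := smul_pinf_fix h (rootGroup_le_borel h (hKR hg₂))
    rw [e] at this
    exact this)
  obtain ⟨a, b, ⟨ha, ha'⟩, ⟨hb, hb'⟩, hab⟩ := hc g₂ g r v (g * r⁻¹ * g⁻¹) hr hg₂
    (by rw [show g⁻¹ * (g * r⁻¹ * g⁻¹) * g = r⁻¹ by group]; exact K.inv_mem hr)
    (by rw [hv]; group)
  rw [hfix a (hKR ha) g₂ hg₂' (hKR ha'), hfix b (hKR hb) g hg0' (hKR hb'), one_mul] at hab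
  exact hr1 hab

/-- A 2-subgroup with an element of order four, in general. -/
theorem not_crit_orderFour {K : Subgroup (Cfsg.Sz F m)} (hKR : K ≤ rootGroup h) {a b : F} (ha : a ≠ 0)
    (hr : T h a b ∈ K) : ¬ Crit K := by
  intro hc
  set k : Fˣ := (Units.mk0 a ha)⁻¹
  refine not_crit_orderFour_normal h (K := conjSub (H h k) K) (fun x hx => ?_) ?_
    (crit_conj (H h k) (fun x => mem_conjSub) hc) (β := θ m (k : F) * k * b)
  · rw [mem_conjSub] at hx
    have := (Subgroup.mem_normalizer_iff.mp (borel_le_normalizer h (H_mem_borel h k)) _).mp (hKR hx)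
    simpa [mul_assoc] using this
  · refine ⟨T h a b, hr, ?_⟩
    show H h k * T h a b * (H h k)⁻¹ = _
    rw [H_conj_T]
    simp [k, ha]

/-- Three conjugates through a fixed-point-free product. -/
theorem exists_torus_triple (k : Fˣ) (hk : k ≠ 1) :
    ∃ β : F, β ≠ 0 ∧
      tr ((W h * T h 0 1 * W h) * H h k * (W h * T h 0 1 * W h) * T h 0 β) = tr (H h k) := by
  set k' : Fˣ := k⁻¹ with hk'
  have hk'1 : (k' : F) ≠ 1 := fun e => hk (by
    have : k⁻¹ = 1 := Units.ext e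
    simpa using this)
  set e := 1 + θ m (k' : F) * k' with he
  have he0 : e ≠ 0 := fun e0 => hk'1 (h.θ_mul_self_injective k'.ne_zero one_ne_zero (by
    rw [θ_one, mul_one]; exact ((h.eq_iff_add_eq_zero _ _).mpr (he ▸ e0)).symm))
  have hk'2 : (k' : F) + 1 ≠ 0 := fun e0 => hk'1 ((h.eq_iff_add_eq_zero _ _).mpr e0)
  have hθe := θ_ne_zero m he0
  set c := ((k' : F) + 1) * e / (k' * θ m e) with hc
  set y := θ m c * c with hy
  have hc0 : c ≠ 0 := div_ne_zero (mul_ne_zero hk'2 he0) (mul_ne_zero k'.ne_zero hθe)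
  have hθy : θ m y = c * y := by rw [hy, θ_mul, h.θ_θ]; ring
  have hkk : θ m (k : F) * k ≠ 0 := mul_ne_zero (θ_ne_zero m k.ne_zero) k.ne_zero
  set β := y / (θ m (k : F) * k) with hβ
  have hy0 : y ≠ 0 := mul_ne_zero (θ_ne_zero m hc0) hc0
  refine ⟨β, div_ne_zero hy0 hkk, ?_⟩
  have hHT : H h k * T h 0 β = T h 0 y * H h k := by
    rw [show T h 0 y = H h k * T h 0 β * (H h k)⁻¹ by rw [H_conj_zero, hβ, mul_div_cancel₀ _ hkk]]
    group
  have hWW := W_mul_self h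
  have hWH : W h * H h k * W h = H h k' := by rw [W_conj_H]
  have hHT1 : T h 0 1 * H h k' * T h 0 1 = T h 0 e * H h k' := by
    rw [show T h 0 1 * H h k' * T h 0 1 = T h 0 1 * (H h k' * T h 0 1 * (H h k')⁻¹) * H h k' by group,
      H_conj_zero, T_zero_mul, mul_one, he]
  have hform : (W h * T h 0 1 * W h) * H h k * (W h * T h 0 1 * W h) * T h 0 β =
      W h * T h 0 e * W h * (T h 0 y * H h k) := by
    calc (W h * T h 0 1 * W h) * H h k * (W h * T h 0 1 * W h) * T h 0 β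
        = W h * (T h 0 1 * (W h * H h k * W h) * T h 0 1) * W h * T h 0 β := by group
      _ = W h * (T h 0 e * H h k') * W h * T h 0 β := by rw [hWH, hHT1]
      _ = W h * T h 0 e * (W h * W h) * H h k' * W h * T h 0 β := by rw [hWW]; group
      _ = W h * T h 0 e * W h * (W h * H h k' * W h) * T h 0 β := by group
      _ = W h * T h 0 e * W h * (H h k * T h 0 β) := by
        rw [W_conj_H, show k'⁻¹ = k by simp [hk']]; group
      _ = _ := by rw [hHT]
  have hcyc : tr (W h * T h 0 e * W h * (T h 0 y * H h k)) = tr (W h * T h 0 y * W h * H h k' * T h 0 e) := by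
    rw [← tr_conj ((T h 0 e)⁻¹ * W h) (W h * T h 0 e * W h * (T h 0 y * H h k))]
    congr 1
    rw [← hWH]
    simp only [mul_inv_rev, inv_inv, W_inv, mul_assoc]
    simp only [← mul_assoc (W h) (W h), hWW, one_mul, ← mul_assoc (T h 0 e)⁻¹, inv_mul_cancel]
  rw [hform, hcyc]
  show Matrix.trace ((wEl * tEl m 0 y * wEl * hEl m k' * tEl m 0 e : Matrix.SpecialLinearGroup (Fin 4) F).1) =
    Matrix.trace ((hEl m k : Matrix.SpecialLinearGroup (Fin 4) F).1)
  simp only [Matrix.SpecialLinearGroup.coe_mul, tEl_coe, hEl_coe, wEl_coe]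
  simp [Matrix.trace, Matrix.mul_apply, Fin.sum_univ_succ, fz_eq, θ_zero]
  have hhk : hθ m (k : F) = (hθ m (k' : F))⁻¹ := by
    simp only [hk', Units.val_inv_eq_inv_val, hθ, inv_pow, inv_inv]
  have hkv : (k : F) = (k' : F)⁻¹ := by simp [hk']
  rw [hhk, hkv, hθy]
  have hh0 := hθ_ne_zero m k'.ne_zero
  have hk0 := k'.ne_zero
  rw [hc]
  have h4 : (4 : F) = 0 := by linear_combination (2 : F) * h.two_eq_zero
  have h8 : (8 : F) = 0 := by linear_combination (4 : F) * h.two_eq_zero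
  field_simp
  ring_nf
  simp [h.two_eq_zero, h4, h8]

/-- Subgroups of the point stabiliser with a torus element and an involution. -/
theorem not_crit_borel {K : Subgroup (Cfsg.Sz F m)} (hKB : K ≤ borel F m) {l₀ : Fˣ} (hl₀ : l₀ ≠ 1)
    (hl : H h l₀ ∈ K) {b₀ : F} (hb₀ : b₀ ≠ 0) (ht : T h 0 b₀ ∈ K) : ¬ Crit K := by
  intro hc
  obtain ⟨β, hβ, htr⟩ := exists_torus_triple h l₀ hl₀
  obtain ⟨l, hl'⟩ := exists_units_of_theta h (b := b₀ / β) (div_ne_zero hb₀ hβ)
  set M := W h * T h 0 1 * W h with hM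
  have hMM : M * M = 1 := by
    rw [hM, show W h * T h 0 1 * W h * (W h * T h 0 1 * W h) = W h * T h 0 1 * (W h * W h) * T h 0 1 * W h by group,
      W_mul_self, mul_one, mul_assoc (W h), T_sq, θ_zero, zero_mul, T_zero, mul_one, W_mul_self]
  have hMi : M⁻¹ = M := inv_eq_of_mul_eq_one_left hMM
  set N := H h l * M with hN
  set x := H h l₀ with hx
  set x' := N * x * N⁻¹ with hx'
  set t := T h 0 b₀ with htdef
  set w := x' * t with hw
  have hHl : H h l * T h 0 β * (H h l)⁻¹ = t := by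
    rw [H_conj_zero, hl', htdef]; congr 1; field_simp
  have htrw : tr w = tr x := by
    rw [← htr, ← tr_conj (H h l)⁻¹ w]
    congr 1
    rw [hw, hx', hN, ← hHl, mul_inv_rev, hMi]
    group
  have hx1 : x ≠ 1 := fun e => hl₀ (H_injective h (e.trans (H_one h).symm))
  have hx4 : x ^ 4 ≠ 1 := pow_four_ne_of_mem h (torType_torus h) ((mem_torus h).mpr ⟨l₀, rfl⟩) hx1
  obtain ⟨g₃, hg₃⟩ := isConj_iff.mp (isConj_of_tr h hx4 htrw)
  -- the fixed points of `x'`
  have hN0 : N • pt m (0 : F) 0 = pt m 0 0 := by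
    rw [hN, hM, mul_smul, mul_smul, mul_smul, W_smul_pt_zero, T_smul_pinf, W_smul_pinf, H_smul_pt_zero]
  have hNinf : N • Cfsg.suzukiPointInfinity F = pt m (l : F) 0 := by
    have hfz : fz m (0 : F) 1 = 1 := by rw [fz_eq, θ_zero, θ_one]; ring
    rw [hN, hM, mul_smul, mul_smul, mul_smul, W_smul_pinf, T_smul_pt_zero]
    show H h l • ((wEl : Matrix.SpecialLinearGroup (Fin 4) F) • pt m (0 : F) 1) = _
    rw [wEl_smul_pt h (by rw [hfz]; exact one_ne_zero), hfz, H_smul_pt]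
    simp
  have hp3 : g₃ • Cfsg.suzukiPointInfinity F ≠ Cfsg.suzukiPointInfinity F := by
    intro e
    have h1 : w ∈ borel F m := by
      show w • Cfsg.suzukiPointInfinity F = Cfsg.suzukiPointInfinity F
      conv_lhs => rw [← e, ← hg₃, mul_smul, mul_smul, inv_smul_smul]
      rw [hx, H_smul_pinf, e]
    have h2 : x' ∈ borel F m := by
      have := (borel F m).mul_mem h1 ((borel F m).inv_mem (T_mem_borel h 0 b₀))
      rwa [hw, htdef, mul_inv_cancel_right] at this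
    have h3 : H h l₀ • (N⁻¹ • Cfsg.suzukiPointInfinity F) = N⁻¹ • Cfsg.suzukiPointInfinity F := by
      have h4 : x' • Cfsg.suzukiPointInfinity F = Cfsg.suzukiPointInfinity F := h2
      rwa [hx', mul_smul, mul_smul, ← eq_inv_smul_iff] at h4
    rcases H_fix_eq h hl₀ (smul_mem_ovoid _ pinf_mem) h3 with h5 | h5
    · rw [inv_smul_eq_iff, hNinf] at h5
      exact pt_ne_pinf _ _ h5.symm
    · rw [inv_smul_eq_iff, hN0] at h5
      exact pt_ne_pinf _ _ h5.symm
  obtain ⟨C₃, D₃, hC₃⟩ := (mem_ovoid.mp (smul_mem_ovoid g₃ (pinf_mem (m := m)))).resolve_left hp3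
  -- the second conjugate
  obtain ⟨g₂, C₂, hg₂, hg₂K, hne⟩ : ∃ g₂ C₂, g₂ • Cfsg.suzukiPointInfinity F = pt m C₂ 0 ∧
      g₂⁻¹ * x'⁻¹ * g₂ ∈ K ∧ C₂ ≠ C₃ := by
    by_cases hC : C₃ = 0
    · refine ⟨N, l, hNinf, ?_, by rw [hC]; exact l.ne_zero⟩
      rw [hx', show N⁻¹ * (N * x * N⁻¹)⁻¹ * N = x⁻¹ by group]
      exact K.inv_mem hl
    · refine ⟨N * W h, 0, by rw [mul_smul, W_smul_pinf, hN0], ?_, Ne.symm hC⟩
      rw [hx', show (N * W h)⁻¹ * (N * x * N⁻¹)⁻¹ * (N * W h) = (W h)⁻¹ * x⁻¹ * W h by group, W_inv,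
        hx, H_inv, W_conj_H, inv_inv]
      exact hl
  obtain ⟨a, b, ⟨ha, ha'⟩, ⟨hb, hb'⟩, hab⟩ := hc g₂ g₃ t x'⁻¹ w ht hg₂K
    (by rw [← hg₃]; simpa [mul_assoc] using hl) (by rw [hw]; group)
  obtain ⟨e₁, f₁, k₁, rfl⟩ := borel_form h (hKB ha)
  obtain ⟨e₂, f₂, k₂, rfl⟩ := borel_form h (hKB hb)
  have h1 := smul_pinf_fix h (hKB ha')
  have h2 := smul_pinf_fix h (hKB hb')
  rw [hg₂] at h1
  rw [hC₃] at h2
  have hC1 := coord_of_fix h h1
  have hC2 := coord_of_fix h h2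
  have e0 : t = T h 0 b₀ * H h 1 := by rw [H_one, mul_one]
  obtain ⟨hX, -, hk⟩ := TH_unique h ((e0.symm.trans hab).trans (form_mul h e₁ f₁ e₂ f₂ k₁ k₂))
  have hkv : (k₁ : F) * k₂ = 1 := by rw [← Units.val_mul, ← hk, Units.val_one]
  have h3 : ((k₁ : F) + 1) * (C₂ + C₃) = 0 := by
    linear_combination hC1 + (k₁ : F) * hC2 - C₃ * hkv + hX + (C₂ + (k₁ : F) * C₃) * h.two_eq_zero
  have hne' : C₂ + C₃ ≠ 0 := fun e => hne ((h.eq_iff_add_eq_zero _ _).mpr e)
  have hk1 : (k₁ : F) = 1 := (h.eq_iff_add_eq_zero _ _).mpr ((mul_eq_zero.mp h3).resolve_right hne')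
  have hk1' : k₁ = 1 := Units.ext hk1
  rw [hk1', H_one, mul_one] at hab h1
  have ha1 : T h e₁ f₁ = 1 := by
    by_contra hcon
    exact pt_ne_pinf _ _ (T_fix_eq h hcon (pt_mem _ _) h1)
  rw [ha1, one_mul] at hab
  have hfix : t • pt m C₃ D₃ = pt m C₃ D₃ := by rw [hab]; exact h2
  refine pt_ne_pinf _ _ (T_fix_eq h ?_ (pt_mem _ _) hfix)
  exact fun e => hb₀ ((eq_one_iff_T h).mp e).2

end Cfsg.Agent.SzBinary
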