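import Cfsg.Agent.Lib.SzBinary.Basic
import Cfsg.Agent.Lib.Suzuki.TorType
import Cfsg.Agent.Lib.Suzuki.Solubilizer
import Cfsg.Agent.Lib.Suzuki.Trace

/-!
Basic facts about the Suzuki groups used in the determination of their binary actions.
-/

set_option autoImplicit false
set_option linter.unusedSectionVars false

namespace Cfsg.Agent.SzBinary

open Cfsg.Agent.Suzuki

variable {F : Type*} [Field F] [Fintype F] {m : ℕ} (h : SzField F m)

include h

theorem form_mul (a b c d : F) (k l : Fˣ) :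
    (T h a b * H h k) * (T h c d * H h l) =
      T h (a + (k : F) * c) (b + θ m (k : F) * k * d + θ m a * ((k : F) * c)) * H h (k * l) := by
  rw [show (T h a b * H h k) * (T h c d * H h l) = T h a b * (H h k * T h c d * (H h k)⁻¹) * (H h k * H h l) by group,
    H_conj_T, T_mul, H_mul]

/-- The `X`-coordinate equation for a fixed point of an element of the Borel subgroup. -/
theorem coord_of_fix {a b x y : F} {k : Fˣ} (e : (T h a b * H h k) • pt m x y = pt m x y) :
    (k : F) * x + a = x := by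
  rw [mul_smul, H_smul_pt, T_smul_pt] at e
  exact (pt_inj e).1

theorem smul_pinf_fix {a g : Cfsg.Sz F m} (ha : g⁻¹ * a * g ∈ borel F m) :
    a • (g • Cfsg.suzukiPointInfinity F) = g • Cfsg.suzukiPointInfinity F := by
  have h1 : (g⁻¹ * a * g) • Cfsg.suzukiPointInfinity F = Cfsg.suzukiPointInfinity F := ha
  rwa [mul_smul, mul_smul, inv_smul_eq_iff] at h1

theorem pow_four_of_mem_root {x : Cfsg.Sz F m} (hx : x ∈ rootGroup h) : x ^ 4 = 1 :=
  pow_four_of_conj_root h (u := 1) (by simpa using hx)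

theorem pow_four_conj {g x : Cfsg.Sz F m} : (g * x * g⁻¹) ^ 4 = 1 ↔ x ^ 4 = 1 := by
  rw [conj_pow, conj_eq_one_iff]

theorem pow_four_of_odd {x : Cfsg.Sz F m} {H : Subgroup (Cfsg.Sz F m)} (hH : Odd (Nat.card H)) (hx : x ∈ H)
    (h4 : x ^ 4 = 1) : x = 1 := by
  refine orderOf_eq_one_iff.mp (Nat.eq_one_of_dvd_coprimes ?_ (orderOf_dvd_of_pow_eq_one h4)
    (Subgroup.orderOf_mk x hx ▸ orderOf_dvd_natCard (⟨x, hx⟩ : H)))
  exact Nat.Coprime.pow_left 2 (Nat.coprime_two_left.mpr hH)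

theorem exists_units_of_theta {b : F} (hb : b ≠ 0) : ∃ k : Fˣ, θ m (k : F) * k = b := by
  obtain ⟨k, hk, e⟩ := h.θ_mul_self_surjective b hb
  exact ⟨Units.mk0 k hk, e⟩

theorem order_two_T {b : F} (hb : b ≠ 0) : orderOf (T h 0 b) = 2 :=
  orderOf_eq_prime_iff.mpr
    ⟨by rw [pow_two, T_sq, θ_zero, zero_mul, T_zero], fun e => hb ((eq_one_iff_T h).mp e).2⟩

theorem borel_form_of_pow {y : Cfsg.Sz F m} (hy : y ∈ borel F m) (h2 : orderOf y = 2) :
    ∃ b, b ≠ 0 ∧ y = T h 0 b := by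
  have hyy : y ^ 2 ^ 1 = 1 := by rw [pow_one, ← h2, pow_orderOf_eq_one]
  obtain ⟨b, rfl⟩ := involution_in_rootGroup h (borel_two_elt h hy hyy) (by rw [← pow_two]; exact hyy)
  refine ⟨b, fun e => ?_, rfl⟩
  rw [e, T_zero, orderOf_one] at h2
  omega

/-- Conjugates of a torus through a common nontrivial element coincide. -/
theorem mem_normalizer_of_common {C : Subgroup (Cfsg.Sz F m)} {e : ℕ} (hC : TorType C e)
    {g a : Cfsg.Sz F m} (ha : a ∈ C) (ha1 : a ≠ 1) (hga : g⁻¹ * a * g ∈ C) :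
    g ∈ Subgroup.normalizer (C : Set (Cfsg.Sz F m)) := by
  have := TI.mem_normalizer_of_conj hC.ti (n := g⁻¹) ha ha1 (by simpa using hga)
  simpa using Subgroup.inv_mem _ this

/-- An element of a torus normaliser which is not a 2-element lies in the torus. -/
theorem mem_of_mem_normalizer {C : Subgroup (Cfsg.Sz F m)} {e : ℕ} (hC : TorType C e) {y : Cfsg.Sz F m}
    (hy : y ∈ Subgroup.normalizer (C : Set (Cfsg.Sz F m))) (h4 : y ^ 4 ≠ 1) : y ∈ C := by
  by_contra hc
  exact h4 (hC.sub_two h hy hc)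

theorem pow_four_ne_of_mem {C : Subgroup (Cfsg.Sz F m)} {e : ℕ} (hC : TorType C e) {y : Cfsg.Sz F m}
    (hy : y ∈ C) (hy1 : y ≠ 1) : y ^ 4 ≠ 1 := fun h4 => hy1 (hC.not_orderOf_two h hy (n := 2) h4)

end Cfsg.Agent.SzBinary
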